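import Cfsg.Agent.JankoFour.HData.Sigma

/-!
Generated chains: eleven conjugates of `sJ` commute, and their conjugates by `x` and `y` lie in the
group they generate.
-/

set_option autoImplicit false
set_option maxRecDepth 20000

namespace CfsgLib.JankoFour.HBound

open CfsgLib.JankoFour

local notation "J" => Cfsg.Spor.J4

/-- A word. -/
def s0 : List ℕ := []

/-- A word. -/
def s1 : List ℕ := [0]

/-- A word. -/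
def s3 : List ℕ := [0, 2]

/-- A word. -/
def s5 : List ℕ := [0, 2, 0]

/-- A word. -/
def s7 : List ℕ := [0, 1, 0, 2]

/-- A word. -/
def s10 : List ℕ := [0, 1, 0, 1, 0]

/-- A word. -/
def s25 : List ℕ := [0, 1, 0, 2, 0, 2, 0]

/-- A word. -/
def s33 : List ℕ := [0, 1, 0, 1, 0, 2, 0, 2]

/-- A word. -/
def s34 : List ℕ := [0, 1, 0, 2, 0, 1, 0, 1]

/-- A word. -/
def s37 : List ℕ := [0, 1, 0, 2, 0, 2, 0, 2]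

/-- A word. -/
def s40 : List ℕ := [0, 2, 0, 1, 0, 2, 0, 1]

/-- A word. -/
def s68 : List ℕ := [0, 1, 0, 1, 0, 2, 0, 2, 0, 1]

/-- A word. -/
def s69 : List ℕ := [0, 1, 0, 1, 0, 2, 0, 2, 0, 2]

/-- A word. -/
def s76 : List ℕ := [0, 1, 0, 2, 0, 2, 0, 2, 0, 1]

/-- A word. -/
def s100 : List ℕ := [0, 1, 0, 1, 0, 2, 0, 2, 0, 1, 0]

/-- A word. -/
def s143 : List ℕ := [0, 1, 0, 2, 0, 1, 0, 2, 0, 1, 0, 1]

/-- A word. -/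
def s144 : List ℕ := [0, 1, 0, 2, 0, 1, 0, 2, 0, 1, 0, 2]

/-- A word. -/
def s147 : List ℕ := [0, 1, 0, 2, 0, 2, 0, 1, 0, 1, 0, 1]

/-- A word. -/
def s149 : List ℕ := [0, 1, 0, 2, 0, 2, 0, 1, 0, 2, 0, 1]

/-- A word. -/
def s150 : List ℕ := [0, 1, 0, 2, 0, 2, 0, 1, 0, 2, 0, 2]

/-- A word. -/
def s155 : List ℕ := [0, 2, 0, 1, 0, 1, 0, 2, 0, 1, 0, 1]

/-- A word. -/
def s162 : List ℕ := [0, 2, 0, 1, 0, 2, 0, 1, 0, 2, 0, 2]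

/-- A word. -/
def s171 : List ℕ := [0, 2, 0, 2, 0, 1, 0, 2, 0, 1, 0, 1]

/-- A word. -/
def s200 : List ℕ := [0, 1, 0, 2, 0, 1, 0, 2, 0, 1, 0, 1, 0]

/-- A word. -/
def s201 : List ℕ := [0, 1, 0, 2, 0, 1, 0, 2, 0, 1, 0, 2, 0]

/-- A word. -/
def s206 : List ℕ := [0, 1, 0, 2, 0, 2, 0, 1, 0, 2, 0, 1, 0]

/-- A word. -/
def s214 : List ℕ := [0, 2, 0, 1, 0, 1, 0, 2, 0, 2, 0, 1, 0]

/-- A word. -/
def s226 : List ℕ := [0, 2, 0, 2, 0, 1, 0, 1, 0, 2, 0, 1, 0]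

/-- A word. -/
def s241 : List ℕ := [0, 1, 0, 1, 0, 1, 0, 1, 0, 2, 0, 1, 0, 1]

/-- A word. -/
def s253 : List ℕ := [0, 1, 0, 1, 0, 2, 0, 1, 0, 1, 0, 2, 0, 1]

/-- A word. -/
def s254 : List ℕ := [0, 1, 0, 1, 0, 2, 0, 1, 0, 1, 0, 2, 0, 2]

/-- A word. -/
def s275 : List ℕ := [0, 1, 0, 2, 0, 1, 0, 2, 0, 1, 0, 2, 0, 1]

/-- A word. -/
def s276 : List ℕ := [0, 1, 0, 2, 0, 1, 0, 2, 0, 1, 0, 2, 0, 2]

/-- A word. -/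
def s294 : List ℕ := [0, 2, 0, 1, 0, 1, 0, 1, 0, 2, 0, 1, 0, 2]

/-- A word. -/
def s306 : List ℕ := [0, 2, 0, 1, 0, 2, 0, 1, 0, 1, 0, 1, 0, 2]

/-- A word. -/
def s325 : List ℕ := [0, 2, 0, 2, 0, 1, 0, 1, 0, 2, 0, 1, 0, 1]

/-- A word. -/
def s356 : List ℕ := [0, 1, 0, 1, 0, 1, 0, 2, 0, 2, 0, 2, 0, 1, 0]

/-- A word. -/
def s360 : List ℕ := [0, 1, 0, 1, 0, 2, 0, 1, 0, 1, 0, 2, 0, 1, 0]

/-- A word. -/
def s377 : List ℕ := [0, 1, 0, 2, 0, 1, 0, 2, 0, 1, 0, 2, 0, 1, 0]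

/-- A word. -/
def s379 : List ℕ := [0, 1, 0, 2, 0, 1, 0, 2, 0, 2, 0, 1, 0, 2, 0]

/-- A word. -/
def s405 : List ℕ := [0, 2, 0, 1, 0, 2, 0, 1, 0, 2, 0, 1, 0, 2, 0]

/-- A word. -/
def s443 : List ℕ := [0, 1, 0, 1, 0, 1, 0, 1, 0, 1, 0, 1, 0, 2, 0, 2]

/-- A word. -/
def s485 : List ℕ := [0, 1, 0, 2, 0, 1, 0, 1, 0, 1, 0, 1, 0, 1, 0, 1]

/-- A word. -/
def s487 : List ℕ := [0, 1, 0, 2, 0, 1, 0, 1, 0, 1, 0, 2, 0, 1, 0, 1]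

/-- A word. -/
def s493 : List ℕ := [0, 1, 0, 2, 0, 1, 0, 1, 0, 2, 0, 1, 0, 2, 0, 1]

/-- A word. -/
def s498 : List ℕ := [0, 1, 0, 2, 0, 1, 0, 2, 0, 2, 0, 1, 0, 1, 0, 2]

/-- A word. -/
def s500 : List ℕ := [0, 1, 0, 2, 0, 1, 0, 2, 0, 2, 0, 1, 0, 2, 0, 2]

/-- A word. -/
def s522 : List ℕ := [0, 2, 0, 1, 0, 1, 0, 1, 0, 2, 0, 2, 0, 2, 0, 2]

/-- A word. -/
def s545 : List ℕ := [0, 2, 0, 1, 0, 2, 0, 1, 0, 2, 0, 1, 0, 1, 0, 2]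

/-- A word. -/
def s548 : List ℕ := [0, 2, 0, 1, 0, 2, 0, 1, 0, 2, 0, 2, 0, 1, 0, 1]

/-- A word. -/
def s591 : List ℕ := [0, 2, 0, 2, 0, 1, 0, 2, 0, 2, 0, 1, 0, 1, 0, 1]

/-- A word. -/
def s606 : List ℕ := [0, 2, 0, 2, 0, 2, 0, 2, 0, 2, 0, 1, 0, 1, 0, 2]

/-- A word. -/
def s615 : List ℕ := [0, 1, 0, 1, 0, 1, 0, 1, 0, 2, 0, 1, 0, 1, 0, 1, 0]

/-- A word. -/
def s644 : List ℕ := [0, 1, 0, 1, 0, 2, 0, 2, 0, 2, 0, 1, 0, 2, 0, 1, 0]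

/-- A word. -/
def s651 : List ℕ := [0, 1, 0, 2, 0, 1, 0, 1, 0, 1, 0, 2, 0, 1, 0, 1, 0]

/-- A word. -/
def s668 : List ℕ := [0, 1, 0, 2, 0, 2, 0, 1, 0, 1, 0, 2, 0, 1, 0, 2, 0]

/-- A word. -/
def s707 : List ℕ := [0, 2, 0, 1, 0, 2, 0, 2, 0, 1, 0, 1, 0, 1, 0, 2, 0]

/-- A word. -/
def s733 : List ℕ := [0, 2, 0, 2, 0, 1, 0, 1, 0, 2, 0, 2, 0, 2, 0, 1, 0]

/-- A word. -/
def s751 : List ℕ := [0, 2, 0, 2, 0, 2, 0, 1, 0, 2, 0, 2, 0, 2, 0, 2, 0]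

/-- A word. -/
def s759 : List ℕ := [0, 2, 0, 2, 0, 2, 0, 2, 0, 2, 0, 2, 0, 2, 0, 2, 0]

/-- A word. -/
def s773 : List ℕ := [0, 1, 0, 1, 0, 1, 0, 2, 0, 1, 0, 2, 0, 1, 0, 2, 0, 1]

/-- A word. -/
def s793 : List ℕ := [0, 1, 0, 1, 0, 2, 0, 1, 0, 2, 0, 1, 0, 1, 0, 2, 0, 1]

/-- A word. -/
def s811 : List ℕ := [0, 1, 0, 1, 0, 2, 0, 2, 0, 2, 0, 1, 0, 2, 0, 1, 0, 2]

/-- A word. -/
def s813 : List ℕ := [0, 1, 0, 1, 0, 2, 0, 2, 0, 2, 0, 1, 0, 2, 0, 2, 0, 2]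

/-- A word. -/
def s824 : List ℕ := [0, 1, 0, 2, 0, 1, 0, 1, 0, 1, 0, 2, 0, 1, 0, 1, 0, 2]

/-- A word. -/
def s830 : List ℕ := [0, 1, 0, 2, 0, 1, 0, 1, 0, 2, 0, 1, 0, 2, 0, 1, 0, 2]

/-- A word. -/
def s833 : List ℕ := [0, 1, 0, 2, 0, 1, 0, 2, 0, 1, 0, 2, 0, 1, 0, 2, 0, 2]

/-- A word. -/
def s904 : List ℕ := [0, 2, 0, 1, 0, 2, 0, 2, 0, 1, 0, 2, 0, 1, 0, 1, 0, 2]

/-- A word. -/
def s913 : List ℕ := [0, 2, 0, 1, 0, 2, 0, 2, 0, 2, 0, 1, 0, 2, 0, 1, 0, 1]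

/-- A word. -/
def s965 : List ℕ := [0, 2, 0, 2, 0, 2, 0, 1, 0, 2, 0, 2, 0, 1, 0, 1, 0, 1]

/-- A word. -/
def s987 : List ℕ := [0, 1, 0, 1, 0, 1, 0, 1, 0, 1, 0, 2, 0, 2, 0, 1, 0, 1, 0]

/-- A word. -/
def s988 : List ℕ := [0, 1, 0, 1, 0, 1, 0, 1, 0, 1, 0, 2, 0, 2, 0, 2, 0, 1, 0]

/-- A word. -/
def s990 : List ℕ := [0, 1, 0, 1, 0, 1, 0, 1, 0, 2, 0, 2, 0, 1, 0, 1, 0, 1, 0]

/-- A word. -/
def s994 : List ℕ := [0, 1, 0, 1, 0, 1, 0, 2, 0, 1, 0, 2, 0, 1, 0, 2, 0, 2, 0]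

/-- A word. -/
def s999 : List ℕ := [0, 1, 0, 1, 0, 1, 0, 2, 0, 2, 0, 2, 0, 2, 0, 1, 0, 1, 0]

/-- A word. -/
def s1005 : List ℕ := [0, 1, 0, 1, 0, 2, 0, 1, 0, 1, 0, 2, 0, 1, 0, 1, 0, 1, 0]

/-- A word. -/
def s1018 : List ℕ := [0, 1, 0, 1, 0, 2, 0, 2, 0, 1, 0, 2, 0, 2, 0, 1, 0, 1, 0]

/-- A word. -/
def s1024 : List ℕ := [0, 1, 0, 1, 0, 2, 0, 2, 0, 2, 0, 1, 0, 2, 0, 2, 0, 2, 0]

/-- A word. -/
def s1033 : List ℕ := [0, 1, 0, 2, 0, 1, 0, 1, 0, 2, 0, 1, 0, 1, 0, 1, 0, 1, 0]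

/-- A word. -/
def s1047 : List ℕ := [0, 1, 0, 2, 0, 2, 0, 1, 0, 1, 0, 1, 0, 1, 0, 1, 0, 2, 0]

/-- A word. -/
def s1054 : List ℕ := [0, 1, 0, 2, 0, 2, 0, 1, 0, 2, 0, 2, 0, 2, 0, 2, 0, 2, 0]

/-- A word. -/
def s1058 : List ℕ := [0, 2, 0, 1, 0, 1, 0, 1, 0, 2, 0, 1, 0, 2, 0, 1, 0, 1, 0]

/-- A word. -/
def s1067 : List ℕ := [0, 2, 0, 1, 0, 1, 0, 2, 0, 2, 0, 1, 0, 2, 0, 1, 0, 2, 0]

/-- A word. -/
def s1087 : List ℕ := [0, 2, 0, 1, 0, 2, 0, 2, 0, 1, 0, 1, 0, 2, 0, 2, 0, 1, 0]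

/-- A word. -/
def s1096 : List ℕ := [0, 2, 0, 1, 0, 2, 0, 2, 0, 2, 0, 1, 0, 1, 0, 2, 0, 2, 0]

/-- A word. -/
def s1102 : List ℕ := [0, 2, 0, 1, 0, 2, 0, 2, 0, 2, 0, 2, 0, 2, 0, 1, 0, 2, 0]

/-- A word. -/
def s1116 : List ℕ := [0, 2, 0, 2, 0, 1, 0, 1, 0, 2, 0, 1, 0, 2, 0, 2, 0, 2, 0]

/-- A word. -/
def s1117 : List ℕ := [0, 2, 0, 2, 0, 1, 0, 1, 0, 2, 0, 2, 0, 1, 0, 2, 0, 1, 0]

/-- A word. -/
def s1118 : List ℕ := [0, 2, 0, 2, 0, 1, 0, 1, 0, 2, 0, 2, 0, 2, 0, 1, 0, 1, 0]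

/-- A word. -/
def s1135 : List ℕ := [0, 2, 0, 2, 0, 2, 0, 1, 0, 2, 0, 2, 0, 2, 0, 1, 0, 2, 0]

/-- A word. -/
def s1144 : List ℕ := [0, 1, 0, 1, 0, 1, 0, 1, 0, 1, 0, 2, 0, 2, 0, 1, 0, 1, 0, 2]

/-- A word. -/
def s1178 : List ℕ := [0, 1, 0, 1, 0, 2, 0, 1, 0, 2, 0, 1, 0, 2, 0, 2, 0, 1, 0, 2]

/-- A word. -/
def s1197 : List ℕ := [0, 1, 0, 1, 0, 2, 0, 2, 0, 2, 0, 1, 0, 2, 0, 2, 0, 1, 0, 1]

/-- A word. -/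
def s1198 : List ℕ := [0, 1, 0, 1, 0, 2, 0, 2, 0, 2, 0, 1, 0, 2, 0, 2, 0, 2, 0, 1]

/-- A word. -/
def s1213 : List ℕ := [0, 1, 0, 2, 0, 1, 0, 1, 0, 2, 0, 1, 0, 1, 0, 1, 0, 1, 0, 2]

/-- A word. -/
def s1253 : List ℕ := [0, 2, 0, 1, 0, 1, 0, 1, 0, 2, 0, 1, 0, 2, 0, 1, 0, 2, 0, 1]

/-- A word. -/
def s1254 : List ℕ := [0, 2, 0, 1, 0, 1, 0, 1, 0, 2, 0, 1, 0, 2, 0, 1, 0, 2, 0, 2]

/-- A word. -/
def s1270 : List ℕ := [0, 2, 0, 1, 0, 1, 0, 2, 0, 2, 0, 1, 0, 2, 0, 2, 0, 2, 0, 2]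

/-- A word. -/
def s1281 : List ℕ := [0, 2, 0, 1, 0, 2, 0, 1, 0, 2, 0, 1, 0, 1, 0, 1, 0, 1, 0, 2]

/-- A word. -/
def s1285 : List ℕ := [0, 2, 0, 1, 0, 2, 0, 1, 0, 2, 0, 2, 0, 1, 0, 2, 0, 1, 0, 1]

/-- A word. -/
def s1326 : List ℕ := [0, 2, 0, 2, 0, 1, 0, 1, 0, 1, 0, 2, 0, 2, 0, 1, 0, 2, 0, 1]

/-- A word. -/
def s1331 : List ℕ := [0, 2, 0, 2, 0, 1, 0, 1, 0, 2, 0, 1, 0, 2, 0, 2, 0, 2, 0, 1]

/-- A word. -/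
def s1332 : List ℕ := [0, 2, 0, 2, 0, 1, 0, 1, 0, 2, 0, 1, 0, 2, 0, 2, 0, 2, 0, 2]

/-- A word. -/
def s1335 : List ℕ := [0, 2, 0, 2, 0, 1, 0, 2, 0, 1, 0, 1, 0, 1, 0, 1, 0, 1, 0, 1]

/-- A word. -/
def s1359 : List ℕ := [0, 2, 0, 2, 0, 2, 0, 2, 0, 2, 0, 1, 0, 2, 0, 1, 0, 2, 0, 1]

/-- A word. -/
def s1368 : List ℕ := [0, 1, 0, 1, 0, 1, 0, 2, 0, 1, 0, 2, 0, 1, 0, 2, 0, 2, 0, 2, 0]

/-- A word. -/
def s1371 : List ℕ := [0, 1, 0, 1, 0, 1, 0, 2, 0, 2, 0, 2, 0, 1, 0, 1, 0, 2, 0, 2, 0]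

/-- A word. -/
def s1394 : List ℕ := [0, 1, 0, 1, 0, 2, 0, 2, 0, 2, 0, 1, 0, 2, 0, 2, 0, 2, 0, 1, 0]

/-- A word. -/
def s1411 : List ℕ := [0, 1, 0, 2, 0, 1, 0, 2, 0, 2, 0, 2, 0, 1, 0, 2, 0, 1, 0, 2, 0]

/-- A word. -/
def s1413 : List ℕ := [0, 1, 0, 2, 0, 2, 0, 1, 0, 1, 0, 2, 0, 1, 0, 2, 0, 2, 0, 1, 0]

/-- A word. -/
def s1419 : List ℕ := [0, 2, 0, 1, 0, 1, 0, 1, 0, 1, 0, 2, 0, 2, 0, 2, 0, 2, 0, 1, 0]

/-- A word. -/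
def s1423 : List ℕ := [0, 2, 0, 1, 0, 1, 0, 2, 0, 1, 0, 1, 0, 1, 0, 2, 0, 1, 0, 2, 0]

/-- A word. -/
def s1428 : List ℕ := [0, 2, 0, 1, 0, 1, 0, 2, 0, 2, 0, 1, 0, 2, 0, 1, 0, 2, 0, 2, 0]

/-- A word. -/
def s1455 : List ℕ := [0, 2, 0, 1, 0, 2, 0, 2, 0, 2, 0, 2, 0, 2, 0, 2, 0, 1, 0, 2, 0]

/-- A word. -/
def s1460 : List ℕ := [0, 2, 0, 2, 0, 1, 0, 1, 0, 1, 0, 1, 0, 2, 0, 2, 0, 1, 0, 2, 0]

/-- A word. -/
def s1466 : List ℕ := [0, 2, 0, 2, 0, 1, 0, 1, 0, 1, 0, 2, 0, 2, 0, 2, 0, 2, 0, 2, 0]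

/-- A word. -/
def s1468 : List ℕ := [0, 2, 0, 2, 0, 1, 0, 2, 0, 1, 0, 1, 0, 1, 0, 1, 0, 2, 0, 2, 0]

/-- A word. -/
def s1481 : List ℕ := [0, 2, 0, 2, 0, 2, 0, 2, 0, 2, 0, 2, 0, 2, 0, 2, 0, 2, 0, 1, 0]

/-- A word. -/
def s1482 : List ℕ := [0, 1, 0, 1, 0, 1, 0, 1, 0, 1, 0, 2, 0, 2, 0, 2, 0, 1, 0, 2, 0, 2]

/-- A word. -/
def s1507 : List ℕ := [0, 1, 0, 1, 0, 2, 0, 1, 0, 2, 0, 1, 0, 1, 0, 2, 0, 2, 0, 2, 0, 1]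

/-- A word. -/
def s1515 : List ℕ := [0, 1, 0, 1, 0, 2, 0, 2, 0, 1, 0, 2, 0, 1, 0, 2, 0, 1, 0, 1, 0, 1]

/-- A word. -/
def s1517 : List ℕ := [0, 1, 0, 1, 0, 2, 0, 2, 0, 1, 0, 2, 0, 2, 0, 1, 0, 1, 0, 1, 0, 2]

/-- A word. -/
def s1523 : List ℕ := [0, 1, 0, 1, 0, 2, 0, 2, 0, 2, 0, 1, 0, 2, 0, 2, 0, 2, 0, 2, 0, 1]

/-- A word. -/
def s1535 : List ℕ := [0, 1, 0, 2, 0, 1, 0, 1, 0, 2, 0, 1, 0, 1, 0, 1, 0, 1, 0, 1, 0, 2]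

/-- A word. -/
def s1538 : List ℕ := [0, 1, 0, 2, 0, 1, 0, 2, 0, 2, 0, 1, 0, 1, 0, 1, 0, 1, 0, 1, 0, 1]

/-- A word. -/
def s1545 : List ℕ := [0, 1, 0, 2, 0, 1, 0, 2, 0, 2, 0, 2, 0, 1, 0, 2, 0, 1, 0, 2, 0, 1]

/-- A word. -/
def s1558 : List ℕ := [0, 2, 0, 1, 0, 1, 0, 2, 0, 2, 0, 1, 0, 2, 0, 1, 0, 2, 0, 2, 0, 1]

/-- A word. -/
def s1593 : List ℕ := [0, 2, 0, 2, 0, 1, 0, 1, 0, 1, 0, 1, 0, 2, 0, 2, 0, 1, 0, 2, 0, 1]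

/-- A word. -/
def s1603 : List ℕ := [0, 2, 0, 2, 0, 1, 0, 1, 0, 1, 0, 2, 0, 2, 0, 2, 0, 2, 0, 2, 0, 2]

/-- A word. -/
def s1625 : List ℕ := [0, 1, 0, 1, 0, 1, 0, 2, 0, 2, 0, 2, 0, 2, 0, 2, 0, 1, 0, 1, 0, 1, 0]

/-- A word. -/
def s1627 : List ℕ := [0, 1, 0, 1, 0, 1, 0, 2, 0, 2, 0, 2, 0, 2, 0, 2, 0, 2, 0, 2, 0, 1, 0]

/-- A word. -/
def s1628 : List ℕ := [0, 1, 0, 1, 0, 1, 0, 2, 0, 2, 0, 2, 0, 2, 0, 2, 0, 2, 0, 2, 0, 2, 0]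

/-- A word. -/
def s1630 : List ℕ := [0, 1, 0, 1, 0, 2, 0, 1, 0, 1, 0, 2, 0, 1, 0, 1, 0, 1, 0, 2, 0, 2, 0]

/-- A word. -/
def s1635 : List ℕ := [0, 1, 0, 1, 0, 2, 0, 2, 0, 1, 0, 1, 0, 1, 0, 1, 0, 2, 0, 2, 0, 2, 0]

/-- A word. -/
def s1662 : List ℕ := [0, 2, 0, 1, 0, 2, 0, 2, 0, 1, 0, 2, 0, 1, 0, 1, 0, 2, 0, 2, 0, 2, 0]

/-- A word. -/
def s1663 : List ℕ := [0, 2, 0, 1, 0, 2, 0, 2, 0, 1, 0, 2, 0, 2, 0, 2, 0, 2, 0, 1, 0, 1, 0]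

/-- A word. -/
def s1669 : List ℕ := [0, 2, 0, 2, 0, 1, 0, 1, 0, 1, 0, 1, 0, 2, 0, 2, 0, 1, 0, 2, 0, 1, 0]

/-- A word. -/
def s1678 : List ℕ := [0, 2, 0, 2, 0, 1, 0, 1, 0, 1, 0, 2, 0, 2, 0, 2, 0, 2, 0, 2, 0, 2, 0]

/-- A word. -/
def s1689 : List ℕ := [0, 1, 0, 1, 0, 1, 0, 1, 0, 2, 0, 2, 0, 1, 0, 2, 0, 2, 0, 2, 0, 1, 0, 2]

/-- A word. -/
def s1693 : List ℕ := [0, 1, 0, 1, 0, 1, 0, 2, 0, 2, 0, 2, 0, 1, 0, 1, 0, 2, 0, 2, 0, 1, 0, 1]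

/-- A word. -/
def s1700 : List ℕ := [0, 1, 0, 1, 0, 1, 0, 2, 0, 2, 0, 2, 0, 2, 0, 2, 0, 2, 0, 2, 0, 1, 0, 2]

/-- A word. -/
def s1707 : List ℕ := [0, 1, 0, 2, 0, 1, 0, 1, 0, 1, 0, 1, 0, 1, 0, 1, 0, 2, 0, 1, 0, 1, 0, 1]

/-- A word. -/
def s1716 : List ℕ := [0, 2, 0, 1, 0, 1, 0, 2, 0, 1, 0, 1, 0, 1, 0, 2, 0, 1, 0, 2, 0, 2, 0, 1]

/-- A word. -/
def s1724 : List ℕ := [0, 2, 0, 1, 0, 2, 0, 1, 0, 1, 0, 2, 0, 2, 0, 1, 0, 2, 0, 2, 0, 1, 0, 2]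

/-- A word. -/
def s1729 : List ℕ := [0, 2, 0, 1, 0, 2, 0, 2, 0, 1, 0, 2, 0, 2, 0, 2, 0, 2, 0, 1, 0, 1, 0, 2]

/-- A word. -/
def s1734 : List ℕ := [0, 2, 0, 2, 0, 1, 0, 1, 0, 1, 0, 1, 0, 2, 0, 2, 0, 1, 0, 2, 0, 1, 0, 2]

/-- A word. -/
def s1739 : List ℕ := [0, 2, 0, 2, 0, 1, 0, 1, 0, 1, 0, 2, 0, 2, 0, 1, 0, 2, 0, 1, 0, 2, 0, 1]

/-- A word. -/
def s1740 : List ℕ := [0, 2, 0, 2, 0, 1, 0, 1, 0, 1, 0, 2, 0, 2, 0, 1, 0, 2, 0, 1, 0, 2, 0, 2]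

/-- A word. -/
def s1742 : List ℕ := [0, 2, 0, 2, 0, 1, 0, 1, 0, 2, 0, 2, 0, 2, 0, 1, 0, 1, 0, 1, 0, 1, 0, 2]

/-- A word. -/
def s1754 : List ℕ := [0, 1, 0, 2, 0, 1, 0, 2, 0, 2, 0, 1, 0, 1, 0, 1, 0, 1, 0, 1, 0, 2, 0, 1, 0]

/-- A word. -/
def s1765 : List ℕ := [0, 1, 0, 1, 0, 1, 0, 2, 0, 2, 0, 2, 0, 1, 0, 1, 0, 2, 0, 2, 0, 1, 0, 2, 0, 1]

/-- A word. -/
def s1766 : List ℕ := [0, 1, 0, 1, 0, 1, 0, 2, 0, 2, 0, 2, 0, 1, 0, 1, 0, 2, 0, 2, 0, 1, 0, 2, 0, 2]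

/-- Eleven conjugates of `sJ`. -/
def qGens : List J := [sig s0, sig s811, sig s149, sig s68, sig s253, sig s201, sig s1729, sig s1024, sig s1669, sig s3, sig s1603]

/-- The group they generate. -/
def qGroup : Subgroup J := Subgroup.closure {g | g ∈ qGens}

theorem zR {G : Type*} [Group G] {x a b y : G} (ha : a * a = 1) (hxa : x * a = a * x)
    (h : a * b = y) (hab : a * b = b * a) : x * y * (x * y) = x * b * (x * b) := by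
  calc x * y * (x * y) = x * a * b * x * (a * b) := by rw [← h]; group
    _ = a * x * b * x * (b * a) := by rw [hxa, hab]
    _ = a * (x * b * x) * (b * a) := by group
    _ = (x * b * (x * b)) * (a * a) := by
      have c1 : Commute a x := hxa.symm
      have c2 : Commute a b := hab
      rw [((c1.mul_right c2).mul_right c1).eq]
      calc x * b * x * a * (b * a) = x * b * x * (a * b) * a := by group
        _ = x * b * x * (b * a) * a := by rw [hab]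
        _ = _ := by group
    _ = x * b * (x * b) := by rw [ha, mul_one]

theorem zL {G : Type*} [Group G] {x a b y : G} (ha : a * a = 1) (hay : a * y = y * a)
    (h : a * b = x) (hab : a * b = b * a) : x * y * (x * y) = b * y * (b * y) := by
  have c : Commute a (b * y) := (show Commute a b from hab).mul_right hay
  calc x * y * (x * y) = a * (b * y) * (a * (b * y)) := by rw [← h]; group
    _ = a * a * (b * y * (b * y)) := by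
      rw [mul_assoc a (b * y), ← mul_assoc (b * y) a, ← c.eq]; group
    _ = b * y * (b * y) := by rw [ha, one_mul]

theorem big {G : Type*} [Group G] {s v a b : G} (hs : s * s = 1) (hv : v * v = 1) (ha : a * a = 1)
    (hb : b * b = 1) (h : a * b = v) (h1 : s * v * (s * v) = s * a * (s * a))
    (h2 : s * v * (s * v) = s * b * (s * b)) : s * v = v * s := by
  have si : s⁻¹ = s := inv_eq_of_mul_eq_one_right hs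
  have vi : v⁻¹ = v := inv_eq_of_mul_eq_one_right hv
  have ai : a⁻¹ = a := inv_eq_of_mul_eq_one_right ha
  have bi : b⁻¹ = b := inv_eq_of_mul_eq_one_right hb
  obtain ⟨Z, hZ⟩ : ∃ Z, s * v * (s * v) = Z := ⟨_, rfl⟩
  rw [hZ] at h1 h2
  have e : ∀ {q : G}, q⁻¹ = q → s * q * (s * q) = Z → s * q * s = Z * q := fun {q} qi hq => by
    rw [← hq]
    conv_rhs => rw [← qi]
    simp only [qi, mul_assoc]
    rw [show q * q = 1 by nth_rewrite 1 [← qi]; exact inv_mul_cancel q, mul_one]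
  have e3 : Z * a * (Z * b) = Z * (a * b) := by
    rw [← e ai h1.symm, ← e bi h2.symm, h, ← e vi hZ, ← h]
    calc s * a * s * (s * b * s) = s * a * (s * s) * b * s := by group
      _ = s * (a * b) * s := by rw [hs]; group
  have hz : Z = 1 := by
    rw [mul_assoc] at e3
    have e4 := mul_left_cancel (mul_left_cancel e3)
    exact mul_eq_right.1 e4
  rw [hz] at hZ
  calc s * v = (s * v)⁻¹ := (inv_eq_of_mul_eq_one_right hZ).symm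
    _ = v * s := by rw [mul_inv_rev, si, vi]

theorem sl_379_0 (hf : Faithful) : sig s379 * sig s0 = sig s1054 :=
  sline_mul hf (stabGens_fix hf) (sJ_mul_self hf) (base_line hf) [2, 0, 2, 0, 2, 0, 2, 0, 2, 0, 2, 0, 2, 0, 2, 0] 2 1 0
    [3, 0, 2, 0, 5, 5, 1] [3, 1, 5, 3, 1]
    [3] (by decide +kernel)

theorem sl_10_668 (hf : Faithful) : sig s10 * sig s668 = sig s1535 :=
  sline_mul hf (stabGens_fix hf) (sJ_mul_self hf) (base_line hf) [0, 2, 0, 2, 0, 1, 0, 2, 0, 1, 0, 2, 0, 1, 0, 1, 0, 1, 0, 1, 0, 1, 0, 2] 1 2 0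
    [1, 5, 1, 2, 5, 0] [0, 5, 2, 0, 3, 4, 5, 4]
    [3, 1] (by decide +kernel)

theorem sl_379_10 (hf : Faithful) : sig s379 * sig s10 = sig s1754 :=
  sline_mul hf (stabGens_fix hf) (sJ_mul_self hf) (base_line hf) [0, 1, 0, 1, 0, 2, 0, 2, 0, 2, 0, 1, 0, 2, 0] 0 2 1
    [1] [1, 3, 1, 3]
    [2, 5, 2, 4, 5, 4, 3] (by decide +kernel)

theorem sl_0_668 (hf : Faithful) : sig s0 * sig s668 = sig s1481 :=
  sline_mul hf (stabGens_fix hf) (sJ_mul_self hf) (base_line hf) [0, 1, 0, 1, 0, 1, 0, 1, 0, 2, 0] 0 2 1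
    [1] [1, 3, 1, 3]
    [3, 1, 5, 0, 3, 1] (by decide +kernel)

theorem sl_1054_1535 (hf : Faithful) : sig s1054 * sig s1535 = sig s1716 :=
  sline_mul hf (stabGens_fix hf) (sJ_mul_self hf) (base_line hf) [0, 2, 0, 2, 0, 1, 0, 2, 0, 2, 0, 1, 0, 2, 0, 1, 0, 2, 0, 1, 0, 1, 0, 1, 0, 2, 0] 0 2 1
    [1, 3, 1, 5, 3, 2, 0, 5] [5, 2, 0, 3, 2, 5, 2, 5, 5]
    [2, 5, 2, 3, 5, 5, 0] (by decide +kernel)

theorem sl_1754_1481 (hf : Faithful) : sig s1754 * sig s1481 = sig s1716 :=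
  sline_mul hf (stabGens_fix hf) (sJ_mul_self hf) (base_line hf) [1, 0, 1, 0, 2, 0, 1, 0, 1, 0, 1, 0, 1, 0, 2, 0, 2, 0, 1, 0, 1, 0, 1, 0, 2, 0, 2] 0 1 2
    [5, 2, 3, 5, 4] [4, 5, 2, 0, 3, 4, 5, 5]
    [3, 4, 2, 4, 5, 0, 1, 4] (by decide +kernel)

theorem sbase_0_10 (hf : Faithful) : sig s0 * sig s10 = sig s10 * sig s0 :=
  grid (sl_379_0 hf) (sl_10_668 hf)
    (sl_379_10 hf) (sl_0_668 hf) (sl_1054_1535 hf) (sl_1754_1481 hf)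

theorem sc_0_1538 (hf : Faithful) : sig s0 * sig s1538 = sig s1538 * sig s0 :=
  sig_comm_conj hf (stabGens_fix hf) (sbase_0_10 hf) [1, 0, 2, 0, 1, 0, 1, 0, 1, 0, 1, 0, 1, 0, 2, 0, 1, 0, 1, 0, 1, 0, 1, 0, 1, 0, 1, 0, 2, 0, 2, 0, 1]
    [5, 1, 5, 1, 3, 1, 4, 2]
    [2, 4, 5, 1, 3, 4] (by decide +kernel)

theorem sl_1538_498 (hf : Faithful) : sig s1538 * sig s498 = sig s1 :=
  sline_mul hf (stabGens_fix hf) (sJ_mul_self hf) (base_line hf) [0, 1, 0, 1, 0, 2, 0, 2, 0, 2, 0, 1, 0, 1, 0, 2] 1 0 2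
    [2, 5, 2, 4, 5, 4, 3] [1]
    [1, 3, 1, 3] (by decide +kernel)

theorem sc_1538_498 (hf : Faithful) : sig s1538 * sig s498 = sig s498 * sig s1538 :=
  comm_of_mul (sig_mul_self (sJ_mul_self hf) _) (sig_mul_self (sJ_mul_self hf) _)
    (sig_mul_self (sJ_mul_self hf) _) (sl_1538_498 hf)

theorem sc_0_1096 (hf : Faithful) : sig s0 * sig s1096 = sig s1096 * sig s0 :=
  sig_comm_conj hf (stabGens_fix hf) (sbase_0_10 hf) [0, 2, 0, 1, 0, 2, 0, 1, 0, 2, 0, 2, 0, 1, 0, 1, 0, 1, 0, 2, 0, 2, 0, 2, 0, 1, 0, 1, 0, 2, 0, 2, 0, 2]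
    [3, 2, 0, 5, 0, 1, 4, 1]
    [0, 2, 3, 1, 4, 3, 2, 3] (by decide +kernel)

theorem sl_1096_1630 (hf : Faithful) : sig s1096 * sig s1630 = sig s498 :=
  sline_mul hf (stabGens_fix hf) (sJ_mul_self hf) (base_line hf) [1, 0, 2, 0, 1, 0, 2, 0, 2, 0, 2, 0, 2, 0, 1, 0] 1 2 0
    [4, 2, 0, 5, 1, 4, 1, 4] [1, 5, 5, 5, 5, 1, 2]
    [5, 4, 5, 4, 3, 2, 0] (by decide +kernel)

theorem sc_1096_1630 (hf : Faithful) : sig s1096 * sig s1630 = sig s1630 * sig s1096 :=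
  comm_of_mul (sig_mul_self (sJ_mul_self hf) _) (sig_mul_self (sJ_mul_self hf) _)
    (sig_mul_self (sJ_mul_self hf) _) (sl_1096_1630 hf)

theorem sc_0_990 (hf : Faithful) : sig s0 * sig s990 = sig s990 * sig s0 :=
  sig_comm_conj hf (stabGens_fix hf) (sbase_0_10 hf) [1, 0, 1, 0, 2, 0, 1, 0, 1, 0, 1, 0, 1, 0, 2, 0, 1, 0, 1, 0, 1, 0, 1, 0, 2, 0, 1, 0, 2, 0]
    [4, 5, 5, 4, 1, 0, 3]
    [1, 3, 2, 3, 4, 2, 5] (by decide +kernel)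

theorem sl_990_1285 (hf : Faithful) : sig s990 * sig s1285 = sig s1630 :=
  sline_mul hf (stabGens_fix hf) (sJ_mul_self hf) (base_line hf) [0, 2, 0, 1, 0, 1, 0, 2, 0, 1, 0, 1, 0, 1, 0, 2, 0, 2, 0, 2, 0, 1, 0] 2 1 0
    [1, 5, 0, 3, 1, 4, 5, 5] [0, 1, 5, 5, 5, 4, 5, 1, 3]
    [1, 3, 1, 4, 3, 4, 1] (by decide +kernel)

theorem sc_990_1285 (hf : Faithful) : sig s990 * sig s1285 = sig s1285 * sig s990 :=
  comm_of_mul (sig_mul_self (sJ_mul_self hf) _) (sig_mul_self (sJ_mul_self hf) _)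
    (sig_mul_self (sJ_mul_self hf) _) (sl_990_1285 hf)

theorem sc_0_1663 (hf : Faithful) : sig s0 * sig s1663 = sig s1663 * sig s0 :=
  sig_comm_conj hf (stabGens_fix hf) (sbase_0_10 hf) [1, 0, 2, 0, 2, 0, 2, 0, 2, 0, 1, 0, 2, 0, 2, 0, 2, 0, 2, 0, 2, 0, 2, 0, 2, 0, 1, 0, 2, 0, 2, 0, 2, 0]
    [2, 3, 1, 4, 5, 3, 5]
    [1, 2, 0, 5, 1, 5, 2] (by decide +kernel)

theorem sl_1663_1523 (hf : Faithful) : sig s1663 * sig s1523 = sig s1285 :=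
  sline_mul hf (stabGens_fix hf) (sJ_mul_self hf) (base_line hf) [0, 2, 0, 2, 0, 1, 0, 2, 0, 2, 0, 2, 0, 2, 0, 1, 0, 1, 0, 2, 0, 2, 0, 1, 0, 2] 2 0 1
    [0, 2, 3, 5, 5, 1, 0, 2] [3, 0, 2, 5, 4, 5, 5]
    [3, 4, 5, 0, 1, 0, 5, 1] (by decide +kernel)

theorem sc_1663_1523 (hf : Faithful) : sig s1663 * sig s1523 = sig s1523 * sig s1663 :=
  comm_of_mul (sig_mul_self (sJ_mul_self hf) _) (sig_mul_self (sJ_mul_self hf) _)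
    (sig_mul_self (sJ_mul_self hf) _) (sl_1663_1523 hf)

theorem sc_0_1413 (hf : Faithful) : sig s0 * sig s1413 = sig s1413 * sig s0 :=
  sig_comm_conj hf (stabGens_fix hf) (sbase_0_10 hf) [2, 0, 2, 0, 1, 0, 1, 0, 2, 0, 2, 0, 1, 0, 1, 0, 2, 0, 1, 0, 2, 0, 2, 0, 2, 0, 2, 0, 1, 0, 2]
    [4, 5, 0, 5, 0, 3, 0, 5]
    [4, 5, 4, 5, 4, 3, 2, 4] (by decide +kernel)

theorem sl_1413_241 (hf : Faithful) : sig s1413 * sig s241 = sig s498 :=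
  sline_mul hf (stabGens_fix hf) (sJ_mul_self hf) (base_line hf) [0, 2, 0, 2, 0, 1, 0, 2, 0, 2, 0, 2, 0, 2, 0, 1, 0, 1, 0, 2, 0, 1, 0, 1, 0, 2, 0] 1 0 2
    [0, 1, 5, 5, 4, 1, 3, 2, 3] [2, 5, 2, 3, 0, 3]
    [0, 3, 5] (by decide +kernel)

theorem sc_1413_241 (hf : Faithful) : sig s1413 * sig s241 = sig s241 * sig s1413 :=
  comm_of_mul (sig_mul_self (sJ_mul_self hf) _) (sig_mul_self (sJ_mul_self hf) _)
    (sig_mul_self (sJ_mul_self hf) _) (sl_1413_241 hf)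

theorem sc_0_356 (hf : Faithful) : sig s0 * sig s356 = sig s356 * sig s0 :=
  sig_comm_conj hf (stabGens_fix hf) (sbase_0_10 hf) [0, 1, 0, 1, 0, 1, 0, 2, 0, 2, 0, 1, 0, 1, 0, 2, 0, 2, 0, 2, 0, 1, 0, 1, 0, 1, 0, 1, 0, 1, 0, 1, 0, 1, 0]
    [0, 5, 0, 1, 4, 5, 2, 3]
    [5, 2] (by decide +kernel)

theorem sl_356_1005 (hf : Faithful) : sig s356 * sig s1005 = sig s241 :=
  sline_mul hf (stabGens_fix hf) (sJ_mul_self hf) (base_line hf) [0, 1, 0, 2, 0, 1, 0, 2, 0, 2, 0, 1, 0, 2, 0, 1] 1 2 0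
    [0, 2, 4, 5, 0, 5, 5, 5] [3, 0, 5, 0, 3, 1, 3]
    [3, 1, 5, 3, 1, 3, 1] (by decide +kernel)

theorem sc_356_1005 (hf : Faithful) : sig s356 * sig s1005 = sig s1005 * sig s356 :=
  comm_of_mul (sig_mul_self (sJ_mul_self hf) _) (sig_mul_self (sJ_mul_self hf) _)
    (sig_mul_self (sJ_mul_self hf) _) (sl_356_1005 hf)

theorem sc_0_34 (hf : Faithful) : sig s0 * sig s34 = sig s34 * sig s0 :=
  sig_comm_conj hf (stabGens_fix hf) (sbase_0_10 hf) [1, 0, 1, 0, 2, 0, 2, 0, 2, 0, 1, 0, 1, 0, 2, 0, 1, 0, 1, 0, 1, 0, 1, 0, 1, 0, 2, 0, 1]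
    [0, 1, 3, 1, 3, 0]
    [1, 5] (by decide +kernel)

theorem sl_34_33 (hf : Faithful) : sig s34 * sig s33 = sig s1005 :=
  sline_mul hf (stabGens_fix hf) (sJ_mul_self hf) (base_line hf) [1, 0, 1, 0, 2, 0, 1, 0, 2, 0, 1, 0, 1, 0, 2, 0, 2, 0] 2 1 0
    [0, 2, 5, 0, 5, 4, 1] [4, 3, 5]
    [4] (by decide +kernel)

theorem sc_34_33 (hf : Faithful) : sig s34 * sig s33 = sig s33 * sig s34 :=
  comm_of_mul (sig_mul_self (sJ_mul_self hf) _) (sig_mul_self (sJ_mul_self hf) _)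
    (sig_mul_self (sJ_mul_self hf) _) (sl_34_33 hf)

theorem sl_1523_33 (hf : Faithful) : sig s1523 * sig s33 = sig s1 :=
  sline_mul hf (stabGens_fix hf) (sJ_mul_self hf) (base_line hf) [1, 0, 1, 0, 1, 0, 1, 0, 2] 2 1 0
    [0, 5, 1, 0, 3, 2, 5, 4] []
    [] (by decide +kernel)

theorem sbase_0_1 (hf : Faithful) : sig s0 * sig s1 = sig s1 * sig s0 :=
  big (sig_mul_self (sJ_mul_self hf) _) (sig_mul_self (sJ_mul_self hf) _) (sig_mul_self (sJ_mul_self hf) _) (sig_mul_self (sJ_mul_self hf) _)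
    (sl_1523_33 hf)
    (((((zR (sig_mul_self (sJ_mul_self hf) _) (sc_0_1538 hf) (sl_1538_498 hf) (sc_1538_498 hf))).trans (zR (sig_mul_self (sJ_mul_self hf) _) (sc_0_1096 hf) (sl_1096_1630 hf) (sc_1096_1630 hf))).trans (zR (sig_mul_self (sJ_mul_self hf) _) (sc_0_990 hf) (sl_990_1285 hf) (sc_990_1285 hf))).trans (zR (sig_mul_self (sJ_mul_self hf) _) (sc_0_1663 hf) (sl_1663_1523 hf) (sc_1663_1523 hf)))
    (((((zR (sig_mul_self (sJ_mul_self hf) _) (sc_0_1538 hf) (sl_1538_498 hf) (sc_1538_498 hf))).trans (zR (sig_mul_self (sJ_mul_self hf) _) (sc_0_1413 hf) (sl_1413_241 hf) (sc_1413_241 hf))).trans (zR (sig_mul_self (sJ_mul_self hf) _) (sc_0_356 hf) (sl_356_1005 hf) (sc_356_1005 hf))).trans (zR (sig_mul_self (sJ_mul_self hf) _) (sc_0_34 hf) (sl_34_33 hf) (sc_34_33 hf)))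

theorem mem_0 : sig s0 ∈ qGroup :=
  Subgroup.subset_closure (by simp [qGens])

theorem mem_811 : sig s811 ∈ qGroup :=
  Subgroup.subset_closure (by simp [qGens])

theorem mem_149 : sig s149 ∈ qGroup :=
  Subgroup.subset_closure (by simp [qGens])

theorem mem_68 : sig s68 ∈ qGroup :=
  Subgroup.subset_closure (by simp [qGens])

theorem mem_253 : sig s253 ∈ qGroup :=
  Subgroup.subset_closure (by simp [qGens])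

theorem mem_201 : sig s201 ∈ qGroup :=
  Subgroup.subset_closure (by simp [qGens])

theorem mem_1729 : sig s1729 ∈ qGroup :=
  Subgroup.subset_closure (by simp [qGens])

theorem mem_1024 : sig s1024 ∈ qGroup :=
  Subgroup.subset_closure (by simp [qGens])

theorem mem_1669 : sig s1669 ∈ qGroup :=
  Subgroup.subset_closure (by simp [qGens])

theorem mem_3 : sig s3 ∈ qGroup :=
  Subgroup.subset_closure (by simp [qGens])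

theorem mem_1603 : sig s1603 ∈ qGroup :=
  Subgroup.subset_closure (by simp [qGens])

theorem sl_0_201 (hf : Faithful) : sig s0 * sig s201 = sig s1394 :=
  sline_mul hf (stabGens_fix hf) (sJ_mul_self hf) (base_line hf) [0, 2, 0, 1, 0, 1, 0, 1, 0, 1, 0, 1, 0, 2, 0, 2] 0 2 1
    [4, 1, 3, 1] [1, 2, 5, 5]
    [1, 4, 5, 0, 5, 3, 5] (by decide +kernel)

theorem mem_1394 (hf : Faithful) : sig s1394 ∈ qGroup :=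
  (sl_0_201 hf) ▸ qGroup.mul_mem (mem_0) (mem_201)

theorem sl_0_68 (hf : Faithful) : sig s0 * sig s68 = sig s1411 :=
  sline_mul hf (stabGens_fix hf) (sJ_mul_self hf) (base_line hf) [1, 0, 1, 0, 1, 0, 1, 0, 2, 0, 1] 0 1 2
    [0] []
    [3, 1, 0, 5, 5, 2] (by decide +kernel)

theorem mem_1411 (hf : Faithful) : sig s1411 ∈ qGroup :=
  (sl_0_68 hf) ▸ qGroup.mul_mem (mem_0) (mem_68)

theorem sl_1603_1411 (hf : Faithful) : sig s1603 * sig s1411 = sig s591 :=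
  sline_mul hf (stabGens_fix hf) (sJ_mul_self hf) (base_line hf) [0, 1, 0, 2, 0, 1, 0, 1, 0, 2, 0, 2, 0, 2, 0, 2, 0, 1, 0, 1, 0, 1, 0, 2, 0] 2 0 1
    [1, 5, 2, 0, 5] [2, 5, 2, 3, 0]
    [5, 5, 4, 5, 5, 2, 3, 4] (by decide +kernel)

theorem mem_591 (hf : Faithful) : sig s591 ∈ qGroup :=
  (sl_1603_1411 hf) ▸ qGroup.mul_mem (mem_1603) (mem_1411 hf)

theorem sl_68_253 (hf : Faithful) : sig s68 * sig s253 = sig s1253 :=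
  sline_mul hf (stabGens_fix hf) (sJ_mul_self hf) (base_line hf) [0, 2, 0, 2, 0, 1, 0, 1, 0, 2, 0, 2, 0, 1, 0, 2, 0, 1, 0, 2, 0, 2, 0, 1, 0, 1, 0, 1, 0, 2] 1 2 0
    [0, 5, 5, 0, 1, 3, 2, 4] [0, 3, 1, 5, 5, 5, 4, 2, 3]
    [1, 0, 2, 3, 5, 0, 1, 5] (by decide +kernel)

theorem mem_1253 (hf : Faithful) : sig s1253 ∈ qGroup :=
  (sl_68_253 hf) ▸ qGroup.mul_mem (mem_68) (mem_253)

theorem sl_1729_1394 (hf : Faithful) : sig s1729 * sig s1394 = sig s830 :=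
  sline_mul hf (stabGens_fix hf) (sJ_mul_self hf) (base_line hf) [2, 0, 1, 0, 1, 0, 1, 0, 2, 0, 1, 0, 2, 0, 1, 0, 2, 0, 1, 0, 2] 1 2 0
    [1, 0, 3, 5, 1, 4, 2, 5, 4] [0, 3, 1, 0, 1, 0, 1, 0]
    [1, 3] (by decide +kernel)

theorem mem_830 (hf : Faithful) : sig s830 ∈ qGroup :=
  (sl_1729_1394 hf) ▸ qGroup.mul_mem (mem_1729) (mem_1394 hf)

theorem sl_3_830 (hf : Faithful) : sig s3 * sig s830 = sig s405 :=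
  sline_mul hf (stabGens_fix hf) (sJ_mul_self hf) (base_line hf) [1, 0, 1, 0, 2, 0, 2, 0, 1, 0, 2, 0, 1, 0, 2, 0, 2, 0, 1, 0, 2, 0, 1, 0, 1] 1 2 0
    [3, 1, 3, 1, 3, 5] [2, 4, 5, 5, 5]
    [0, 1, 0, 2, 3, 1, 0, 3, 0] (by decide +kernel)

theorem mem_405 (hf : Faithful) : sig s405 ∈ qGroup :=
  (sl_3_830 hf) ▸ qGroup.mul_mem (mem_3) (mem_830 hf)

theorem sl_1253_405 (hf : Faithful) : sig s1253 * sig s405 = sig s171 :=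
  sline_mul hf (stabGens_fix hf) (sJ_mul_self hf) (base_line hf) [0, 2, 0, 1, 0, 1, 0, 1, 0, 1, 0, 1, 0, 1, 0, 2, 0, 1, 0, 2, 0, 1, 0, 1] 1 2 0
    [5, 5, 2, 0, 3, 5, 2] [1, 4, 5, 2, 3, 0, 2]
    [1, 3, 1] (by decide +kernel)

theorem mem_171 (hf : Faithful) : sig s171 ∈ qGroup :=
  (sl_1253_405 hf) ▸ qGroup.mul_mem (mem_1253 hf) (mem_405 hf)

theorem sl_591_171 (hf : Faithful) : sig s591 * sig s171 = sig s1734 :=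
  sline_mul hf (stabGens_fix hf) (sJ_mul_self hf) (base_line hf) [2, 0, 2, 0, 2, 0, 2, 0, 2, 0, 2, 0, 2, 0, 2, 0, 2, 0, 2, 0, 2, 0, 1, 0, 2, 0, 1, 0, 1] 0 1 2
    [4, 2, 3, 5, 0, 3, 2, 4] [3, 1, 5, 0, 3, 1]
    [0, 3, 1, 4, 5] (by decide +kernel)

theorem mem_1734 (hf : Faithful) : sig s1734 ∈ qGroup :=
  (sl_591_171 hf) ▸ qGroup.mul_mem (mem_591 hf) (mem_171 hf)

theorem sl_811_201 (hf : Faithful) : sig s811 * sig s201 = sig s987 :=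
  sline_mul hf (stabGens_fix hf) (sJ_mul_self hf) (base_line hf) [2, 0, 2, 0, 1, 0, 2, 0, 1, 0, 1, 0, 2, 0, 2, 0, 1, 0, 1, 0, 2, 0] 1 2 0
    [0, 5, 0, 3, 2, 5] [0, 1, 5, 2, 3, 4, 5, 1, 3]
    [1, 5, 1, 0, 5, 1, 0, 5, 3] (by decide +kernel)

theorem mem_987 (hf : Faithful) : sig s987 ∈ qGroup :=
  (sl_811_201 hf) ▸ qGroup.mul_mem (mem_811) (mem_201)

theorem sl_68_987 (hf : Faithful) : sig s68 * sig s987 = sig s1117 :=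
  sline_mul hf (stabGens_fix hf) (sJ_mul_self hf) (base_line hf) [0, 2, 0, 1, 0, 1, 0, 2, 0, 2, 0, 1, 0, 2, 0, 2, 0, 2, 0, 2, 0, 1] 2 0 1
    [3, 1, 3, 1, 3, 5] [0, 5, 4, 5, 1, 3, 1, 0]
    [1, 0, 3, 2, 5, 0, 2, 4] (by decide +kernel)

theorem mem_1117 (hf : Faithful) : sig s1117 ∈ qGroup :=
  (sl_68_987 hf) ▸ qGroup.mul_mem (mem_68) (mem_987 hf)

theorem sl_1669_171 (hf : Faithful) : sig s1669 * sig s171 = sig s1281 :=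
  sline_mul hf (stabGens_fix hf) (sJ_mul_self hf) (base_line hf) [0, 1, 0, 2, 0, 2, 0, 1, 0, 1, 0, 2, 0, 2, 0, 2, 0, 1, 0, 2, 0, 1, 0, 2, 0, 1, 0] 0 2 1
    [1, 0, 1, 4, 3, 5, 2, 4] [2, 3, 5, 5, 1, 0, 1, 5, 5]
    [1, 4, 5, 1, 2, 3, 2] (by decide +kernel)

theorem mem_1281 (hf : Faithful) : sig s1281 ∈ qGroup :=
  (sl_1669_171 hf) ▸ qGroup.mul_mem (mem_1669) (mem_171 hf)

theorem sl_811_1729 (hf : Faithful) : sig s811 * sig s1729 = sig s325 :=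
  sline_mul hf (stabGens_fix hf) (sJ_mul_self hf) (base_line hf) [0, 1, 0, 1, 0, 1, 0, 2, 0, 2, 0, 2, 0, 2, 0, 1, 0, 2, 0, 1, 0, 2] 0 1 2
    [1] [0, 1, 2, 3, 2, 4, 5, 1]
    [3, 1, 3, 0, 3, 5, 1] (by decide +kernel)

theorem mem_325 (hf : Faithful) : sig s325 ∈ qGroup :=
  (sl_811_1729 hf) ▸ qGroup.mul_mem (mem_811) (mem_1729)

theorem sl_1394_325 (hf : Faithful) : sig s1394 * sig s325 = sig s226 :=
  sline_mul hf (stabGens_fix hf) (sJ_mul_self hf) (base_line hf) [0, 1, 0, 2, 0, 2, 0, 2, 0, 2, 0, 2, 0, 2, 0, 2, 0, 2, 0, 1, 0, 2, 0, 2, 0] 2 1 0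
    [0, 5, 1, 2, 0, 5, 4, 3] [2, 5, 1, 5, 0, 5, 5, 0]
    [1, 2, 3, 0, 5, 0, 1, 5] (by decide +kernel)

theorem mem_226 (hf : Faithful) : sig s226 ∈ qGroup :=
  (sl_1394_325 hf) ▸ qGroup.mul_mem (mem_1394 hf) (mem_325 hf)

theorem sl_201_1669 (hf : Faithful) : sig s201 * sig s1669 = sig s1700 :=
  sline_mul hf (stabGens_fix hf) (sJ_mul_self hf) (base_line hf) [1, 0, 2, 0, 2, 0, 1, 0, 1, 0, 1, 0, 2, 0, 1, 0, 2, 0, 1, 0, 2, 0, 1, 0] 2 0 1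
    [2, 0, 5, 5, 4, 3, 0, 1] [1, 0, 1, 4, 3, 5, 1, 0]
    [0, 1, 3, 5, 3, 5, 1, 2, 0] (by decide +kernel)

theorem mem_1700 (hf : Faithful) : sig s1700 ∈ qGroup :=
  (sl_201_1669 hf) ▸ qGroup.mul_mem (mem_201) (mem_1669)

theorem sl_811_1669 (hf : Faithful) : sig s811 * sig s1669 = sig s1742 :=
  sline_mul hf (stabGens_fix hf) (sJ_mul_self hf) (base_line hf) [0, 1, 0, 1, 0, 2, 0, 2, 0, 2, 0, 1, 0, 2, 0, 2, 0, 2, 0, 2, 0, 1, 0, 2, 0, 1, 0, 2] 2 0 1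
    [1, 3, 1, 3] [2, 0, 5, 5, 1, 5, 5, 4, 3]
    [1, 5, 3, 4, 5, 5, 3, 4] (by decide +kernel)

theorem mem_1742 (hf : Faithful) : sig s1742 ∈ qGroup :=
  (sl_811_1669 hf) ▸ qGroup.mul_mem (mem_811) (mem_1669)

theorem sl_1024_1742 (hf : Faithful) : sig s1024 * sig s1742 = sig s759 :=
  sline_mul hf (stabGens_fix hf) (sJ_mul_self hf) (base_line hf) [0, 1, 0, 2, 0, 1, 0, 1, 0, 2, 0, 2, 0, 2, 0, 1, 0, 1, 0, 1, 0, 1] 0 2 1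
    [0, 1, 2, 5, 0, 2] [0, 2, 3, 5, 1, 0, 5, 3, 2]
    [5, 4, 5, 1, 5, 2] (by decide +kernel)

theorem mem_759 (hf : Faithful) : sig s759 ∈ qGroup :=
  (sl_1024_1742 hf) ▸ qGroup.mul_mem (mem_1024) (mem_1742 hf)

theorem sl_0_811 (hf : Faithful) : sig s0 * sig s811 = sig s1428 :=
  sline_mul hf (stabGens_fix hf) (sJ_mul_self hf) (base_line hf) [2, 0, 1, 0, 1, 0, 1, 0, 1, 0, 1, 0, 2, 0, 2] 0 2 1
    [4, 1, 3] [4, 2, 5, 4, 5, 1, 3, 1]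
    [0, 3, 2, 4, 3, 5, 2, 4] (by decide +kernel)

theorem mem_1428 (hf : Faithful) : sig s1428 ∈ qGroup :=
  (sl_0_811 hf) ▸ qGroup.mul_mem (mem_0) (mem_811)

theorem sl_149_1428 (hf : Faithful) : sig s149 * sig s1428 = sig s1058 :=
  sline_mul hf (stabGens_fix hf) (sJ_mul_self hf) (base_line hf) [2, 0, 2, 0, 2, 0, 2, 0, 2, 0, 1, 0, 1, 0, 2, 0, 2, 0, 2, 0, 1, 0, 1, 0, 2, 0, 1] 2 0 1
    [4, 2, 4, 5, 1, 4, 1, 5] [0, 2, 5, 3, 2, 5, 1, 4]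
    [4, 5, 2, 5, 3, 1, 0, 2, 4] (by decide +kernel)

theorem mem_1058 (hf : Faithful) : sig s1058 ∈ qGroup :=
  (sl_149_1428 hf) ▸ qGroup.mul_mem (mem_149) (mem_1428 hf)

theorem sl_253_1058 (hf : Faithful) : sig s253 * sig s1058 = sig s1689 :=
  sline_mul hf (stabGens_fix hf) (sJ_mul_self hf) (base_line hf) [1, 0, 1, 0, 2, 0, 1, 0, 2, 0, 2, 0, 2, 0, 1, 0, 2, 0, 1, 0, 2, 0, 1, 0, 2] 0 1 2
    [3, 1, 3, 4, 2] [1, 0, 5, 0, 3, 5, 1, 4]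
    [3, 1, 2, 3, 1, 3, 0, 3] (by decide +kernel)

theorem mem_1689 (hf : Faithful) : sig s1689 ∈ qGroup :=
  (sl_253_1058 hf) ▸ qGroup.mul_mem (mem_253) (mem_1058 hf)

theorem sl_759_1689 (hf : Faithful) : sig s759 * sig s1689 = sig s1326 :=
  sline_mul hf (stabGens_fix hf) (sJ_mul_self hf) (base_line hf) [1, 0, 2, 0, 1, 0, 2, 0, 1, 0, 2, 0, 2, 0, 1, 0, 1, 0, 2, 0, 2, 0, 2, 0] 1 0 2
    [2] [5, 2, 5, 3, 4, 5]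
    [1, 2, 0, 3, 5, 1, 0, 5] (by decide +kernel)

theorem mem_1326 (hf : Faithful) : sig s1326 ∈ qGroup :=
  (sl_759_1689 hf) ▸ qGroup.mul_mem (mem_759 hf) (mem_1689 hf)

theorem sl_405_1326 (hf : Faithful) : sig s405 * sig s1326 = sig s1331 :=
  sline_mul hf (stabGens_fix hf) (sJ_mul_self hf) (base_line hf) [0, 2, 0, 1, 0, 1, 0, 2, 0, 1, 0, 1, 0, 1, 0, 2, 0, 1, 0, 1, 0, 1, 0, 1] 0 1 2
    [0, 2, 3, 0, 3, 2, 3] [5, 5, 4, 3, 1, 3, 1]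
    [3, 1, 3, 1, 3, 5] (by decide +kernel)

theorem mem_1331 (hf : Faithful) : sig s1331 ∈ qGroup :=
  (sl_405_1326 hf) ▸ qGroup.mul_mem (mem_405 hf) (mem_1326 hf)

theorem sl_1700_1331 (hf : Faithful) : sig s1700 * sig s1331 = sig s37 :=
  sline_mul hf (stabGens_fix hf) (sJ_mul_self hf) (base_line hf) [0, 2, 0, 1, 0, 1, 0, 1, 0, 2, 0, 2, 0, 2, 0, 1, 0, 1, 0, 2, 0, 1, 0, 1, 0, 1, 0, 1] 1 0 2
    [1, 4, 1, 5, 3, 0, 1] [1, 3, 1]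
    [1, 3, 5, 5, 5, 0, 5, 0] (by decide +kernel)

theorem mem_37 (hf : Faithful) : sig s37 ∈ qGroup :=
  (sl_1700_1331 hf) ▸ qGroup.mul_mem (mem_1700 hf) (mem_1331 hf)

theorem sl_149_37 (hf : Faithful) : sig s149 * sig s37 = sig s904 :=
  sline_mul hf (stabGens_fix hf) (sJ_mul_self hf) (base_line hf) [0, 2, 0, 1, 0, 1, 0, 2, 0, 2, 0, 1, 0, 1, 0, 2, 0, 1, 0, 2, 0] 0 2 1
    [1, 2, 3, 1] [1, 3, 1, 3, 5]
    [0, 1, 3, 1, 4, 1, 3, 1, 0] (by decide +kernel)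

theorem mem_904 (hf : Faithful) : sig s904 ∈ qGroup :=
  (sl_149_37 hf) ▸ qGroup.mul_mem (mem_149) (mem_37 hf)

theorem sl_1253_904 (hf : Faithful) : sig s1253 * sig s904 = sig s1135 :=
  sline_mul hf (stabGens_fix hf) (sJ_mul_self hf) (base_line hf) [1, 0, 2, 0, 1, 0, 2, 0, 2, 0, 2, 0, 2, 0, 2, 0, 1, 0, 1, 0, 2, 0, 2, 0, 2, 0, 1] 1 2 0
    [0, 1, 5, 5, 5, 1, 0, 3, 5] [0, 2, 3, 5, 3, 1, 2]
    [1, 4, 2, 5, 2, 3, 4] (by decide +kernel)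

theorem mem_1135 (hf : Faithful) : sig s1135 ∈ qGroup :=
  (sl_1253_904 hf) ▸ qGroup.mul_mem (mem_1253 hf) (mem_904 hf)

theorem sl_226_1135 (hf : Faithful) : sig s226 * sig s1135 = sig s1423 :=
  sline_mul hf (stabGens_fix hf) (sJ_mul_self hf) (base_line hf) [0, 2, 0, 2, 0, 2, 0, 2, 0, 1, 0, 1, 0, 1, 0, 2, 0, 1, 0, 1, 0, 2, 0, 2, 0, 2] 1 0 2
    [5, 4, 1, 3, 1, 4, 1, 5] [0, 1, 4, 2, 0, 3, 5, 5, 5]
    [2, 3, 5, 4, 5, 1, 4, 1] (by decide +kernel)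

theorem mem_1423 (hf : Faithful) : sig s1423 ∈ qGroup :=
  (sl_226_1135 hf) ▸ qGroup.mul_mem (mem_226 hf) (mem_1135 hf)

theorem sl_1281_1423 (hf : Faithful) : sig s1281 * sig s1423 = sig s214 :=
  sline_mul hf (stabGens_fix hf) (sJ_mul_self hf) (base_line hf) [1, 0, 1, 0, 1, 0, 1, 0, 2, 0, 2, 0, 2, 0, 1, 0, 1, 0, 2, 0, 2, 0, 1, 0] 1 2 0
    [0, 2, 5, 0, 5, 0, 3, 4, 2] [1, 0, 5, 4, 5, 3, 1]
    [4] (by decide +kernel)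

theorem mem_214 (hf : Faithful) : sig s214 ∈ qGroup :=
  (sl_1281_1423 hf) ▸ qGroup.mul_mem (mem_1281 hf) (mem_1423 hf)

theorem sl_1117_214 (hf : Faithful) : sig s1117 * sig s214 = sig s1662 :=
  sline_mul hf (stabGens_fix hf) (sJ_mul_self hf) (base_line hf) [2, 0, 2, 0, 2, 0, 2, 0, 1, 0, 2, 0, 2, 0, 2, 0, 2, 0, 2, 0, 2, 0, 1, 0, 2, 0, 2] 0 2 1
    [2, 5, 3, 4, 2, 0, 5, 5, 4] [0, 5, 0, 2, 5, 5, 1, 0, 3]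
    [4, 1, 4, 5, 2, 5, 3, 1, 4] (by decide +kernel)

theorem mem_1662 (hf : Faithful) : sig s1662 ∈ qGroup :=
  (sl_1117_214 hf) ▸ qGroup.mul_mem (mem_1117 hf) (mem_214 hf)

theorem sl_201_1024 (hf : Faithful) : sig s201 * sig s1024 = sig s1765 :=
  sline_mul hf (stabGens_fix hf) (sJ_mul_self hf) (base_line hf) [0, 1, 0, 1, 0, 1, 0, 1, 0, 2, 0, 2, 0, 1, 0, 2, 0, 1, 0, 2, 0, 1, 0, 2, 0] 0 2 1
    [4, 1] [0, 3, 1, 3, 1]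
    [5, 0, 3, 1, 2, 3, 5, 3] (by decide +kernel)

theorem mem_1765 (hf : Faithful) : sig s1765 ∈ qGroup :=
  (sl_201_1024 hf) ▸ qGroup.mul_mem (mem_201) (mem_1024)

theorem sl_1765_214 (hf : Faithful) : sig s1765 * sig s214 = sig s707 :=
  sline_mul hf (stabGens_fix hf) (sJ_mul_self hf) (base_line hf) [1, 0, 1, 0, 2, 0, 2, 0, 2, 0, 1, 0, 1, 0, 1, 0, 1, 0, 2, 0, 1, 0, 1, 0, 1, 0, 1] 1 0 2
    [2, 3, 5, 5] [0, 5, 2, 3, 2, 4, 3, 0]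
    [1, 3, 5, 5, 1, 5, 4, 1] (by decide +kernel)

theorem mem_707 (hf : Faithful) : sig s707 ∈ qGroup :=
  (sl_1765_214 hf) ▸ qGroup.mul_mem (mem_1765 hf) (mem_214 hf)

theorem sl_1603_37 (hf : Faithful) : sig s1603 * sig s37 = sig s824 :=
  sline_mul hf (stabGens_fix hf) (sJ_mul_self hf) (base_line hf) [0, 2, 0, 2, 0, 1, 0, 2, 0, 1, 0, 1, 0, 2, 0, 1, 0, 1, 0, 2, 0] 1 2 0
    [0, 3, 4, 5, 2, 0, 5, 0] [5]
    [1, 3, 1] (by decide +kernel)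

theorem mem_824 (hf : Faithful) : sig s824 ∈ qGroup :=
  (sl_1603_37 hf) ▸ qGroup.mul_mem (mem_1603) (mem_37 hf)

theorem sl_1765_824 (hf : Faithful) : sig s1765 * sig s824 = sig s1627 :=
  sline_mul hf (stabGens_fix hf) (sJ_mul_self hf) (base_line hf) [0, 1, 0, 1, 0, 2, 0, 1, 0, 1, 0, 2, 0, 2, 0, 2, 0, 1, 0, 2, 0, 1, 0, 2, 0] 1 0 2
    [4, 5, 1, 3, 1, 5, 2, 4] [5, 5, 1, 3, 2, 3, 2]
    [1, 3, 1, 5, 0, 3, 0, 5] (by decide +kernel)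

theorem mem_1627 (hf : Faithful) : sig s1627 ∈ qGroup :=
  (sl_1765_824 hf) ▸ qGroup.mul_mem (mem_1765 hf) (mem_824 hf)

theorem sl_830_824 (hf : Faithful) : sig s830 * sig s824 = sig s733 :=
  sline_mul hf (stabGens_fix hf) (sJ_mul_self hf) (base_line hf) [2, 0, 2, 0, 1, 0, 2, 0, 1, 0, 2, 0, 2, 0, 2, 0, 2, 0, 1, 0, 2] 0 1 2
    [2, 3] [2, 5, 2, 4, 5, 1, 0]
    [5, 2, 5, 2, 3, 1, 3, 2] (by decide +kernel)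

theorem mem_733 (hf : Faithful) : sig s733 ∈ qGroup :=
  (sl_830_824 hf) ▸ qGroup.mul_mem (mem_830 hf) (mem_824 hf)

theorem sl_1689_733 (hf : Faithful) : sig s1689 * sig s733 = sig s965 :=
  sline_mul hf (stabGens_fix hf) (sJ_mul_self hf) (base_line hf) [1, 0, 1, 0, 2, 0, 2, 0, 2, 0, 1, 0, 2, 0, 2, 0, 2, 0, 1, 0, 2, 0] 1 2 0
    [1, 5, 0, 1, 0, 3, 5] [0, 3, 2, 4, 5, 1, 3, 4]
    [2, 0, 3, 2, 5, 1, 2] (by decide +kernel)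

theorem mem_965 (hf : Faithful) : sig s965 ∈ qGroup :=
  (sl_1689_733 hf) ▸ qGroup.mul_mem (mem_1689 hf) (mem_733 hf)

theorem sl_965_1662 (hf : Faithful) : sig s965 * sig s1662 = sig s1213 :=
  sline_mul hf (stabGens_fix hf) (sJ_mul_self hf) (base_line hf) [0, 1, 0, 1, 0, 2, 0, 1, 0, 2, 0, 1, 0, 1, 0, 1, 0, 1, 0, 2, 0] 2 1 0
    [5, 5, 5, 5, 1, 2, 3] [0, 1, 5, 5, 3, 4, 1, 4, 1]
    [2, 5, 4, 5, 1, 4, 5] (by decide +kernel)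

theorem mem_1213 (hf : Faithful) : sig s1213 ∈ qGroup :=
  (sl_965_1662 hf) ▸ qGroup.mul_mem (mem_965 hf) (mem_1662 hf)

theorem sl_1253_1213 (hf : Faithful) : sig s1253 * sig s1213 = sig s1332 :=
  sline_mul hf (stabGens_fix hf) (sJ_mul_self hf) (base_line hf) [2, 0, 2, 0, 2, 0, 1, 0, 2, 0, 1, 0, 2, 0, 2, 0, 1, 0, 1, 0, 2, 0, 1, 0, 2, 0, 1, 0, 2] 1 2 0
    [2, 3, 2, 5, 4, 1, 3, 2] [4, 2, 5, 1, 0, 2, 5, 1]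
    [0, 3] (by decide +kernel)

theorem mem_1332 (hf : Faithful) : sig s1332 ∈ qGroup :=
  (sl_1253_1213 hf) ▸ qGroup.mul_mem (mem_1253 hf) (mem_1213 hf)

theorem sl_1627_1332 (hf : Faithful) : sig s1627 * sig s1332 = sig s25 :=
  sline_mul hf (stabGens_fix hf) (sJ_mul_self hf) (base_line hf) [0, 2, 0, 1, 0, 1, 0, 1, 0, 2, 0, 2, 0, 2, 0, 1, 0, 1, 0, 2, 0, 1, 0, 1, 0, 1, 0, 2] 1 0 2
    [1, 4, 1, 5, 3, 0, 1] [1, 3, 1]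
    [1, 3, 5, 5, 5, 0, 5, 0] (by decide +kernel)

theorem mem_25 (hf : Faithful) : sig s25 ∈ qGroup :=
  (sl_1627_1332 hf) ▸ qGroup.mul_mem (mem_1627 hf) (mem_1332 hf)

theorem sl_1411_25 (hf : Faithful) : sig s1411 * sig s25 = sig s988 :=
  sline_mul hf (stabGens_fix hf) (sJ_mul_self hf) (base_line hf) [1, 0, 1, 0, 1, 0, 1, 0, 2, 0, 2, 0, 1, 0, 2, 0, 2, 0, 2, 0, 2, 0, 1, 0, 1] 1 0 2
    [3, 5, 5, 4, 1, 3, 0, 1] [1, 4]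
    [5, 5, 4, 5, 5, 1, 5, 0] (by decide +kernel)

theorem mem_988 (hf : Faithful) : sig s988 ∈ qGroup :=
  (sl_1411_25 hf) ▸ qGroup.mul_mem (mem_1411 hf) (mem_25 hf)

theorem sl_904_988 (hf : Faithful) : sig s904 * sig s988 = sig s1724 :=
  sline_mul hf (stabGens_fix hf) (sJ_mul_self hf) (base_line hf) [2, 0, 2, 0, 2, 0, 1, 0, 2, 0, 1, 0, 1, 0, 2, 0, 1, 0, 2, 0, 1, 0, 2, 0, 2, 0, 1] 0 2 1
    [3, 2, 3, 0, 3, 0, 1] [0, 1, 3, 5, 1, 2, 3]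
    [5, 1, 3, 5, 4, 2, 4, 5] (by decide +kernel)

theorem mem_1724 (hf : Faithful) : sig s1724 ∈ qGroup :=
  (sl_904_988 hf) ▸ qGroup.mul_mem (mem_904 hf) (mem_988 hf)

theorem sl_707_1724 (hf : Faithful) : sig s707 * sig s1724 = sig s1455 :=
  sline_mul hf (stabGens_fix hf) (sJ_mul_self hf) (base_line hf) [1, 0, 2, 0, 2, 0, 2, 0, 1, 0, 2, 0, 2, 0, 2, 0, 2, 0, 2, 0, 1, 0, 2, 0, 2, 0, 1] 0 2 1
    [0, 5, 3, 5, 5, 5, 0, 1] [2, 0, 5, 3, 4, 5, 3, 2]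
    [0, 5, 3, 0, 3, 2, 0] (by decide +kernel)

theorem mem_1455 (hf : Faithful) : sig s1455 ∈ qGroup :=
  (sl_707_1724 hf) ▸ qGroup.mul_mem (mem_707 hf) (mem_1724 hf)

theorem sl_1669_1455 (hf : Faithful) : sig s1669 * sig s1455 = sig s615 :=
  sline_mul hf (stabGens_fix hf) (sJ_mul_self hf) (base_line hf) [0, 1, 0, 2, 0, 2, 0, 2, 0, 1, 0, 1, 0, 1, 0, 2, 0, 1, 0, 2, 0, 1, 0, 2] 0 1 2
    [2, 5, 5, 4, 5, 5, 5, 1] [0, 3, 2, 3, 0, 5, 3]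
    [4, 2, 3, 1, 4, 5, 4, 3] (by decide +kernel)

theorem mem_615 (hf : Faithful) : sig s615 ∈ qGroup :=
  (sl_1669_1455 hf) ▸ qGroup.mul_mem (mem_1669) (mem_1455 hf)

theorem sl_1662_615 (hf : Faithful) : sig s1662 * sig s615 = sig s487 :=
  sline_mul hf (stabGens_fix hf) (sJ_mul_self hf) (base_line hf) [0, 1, 0, 1, 0, 2, 0, 2, 0, 2, 0, 2, 0, 1, 0, 1, 0, 2, 0, 1, 0, 1] 1 0 2
    [0, 3, 4, 5, 1] [1, 4, 5, 1, 0, 5, 2, 0]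
    [1, 3, 1, 3] (by decide +kernel)

theorem mem_487 (hf : Faithful) : sig s487 ∈ qGroup :=
  (sl_1662_615 hf) ▸ qGroup.mul_mem (mem_1662 hf) (mem_615 hf)

theorem sl_1734_487 (hf : Faithful) : sig s1734 * sig s487 = sig s1766 :=
  sline_mul hf (stabGens_fix hf) (sJ_mul_self hf) (base_line hf) [0, 1, 0, 1, 0, 2, 0, 1, 0, 1, 0, 2, 0, 2, 0, 2, 0, 1, 0, 2, 0, 1, 0, 2, 0, 1, 0] 2 0 1
    [0, 3, 1, 0, 5, 3, 5, 1] [5, 5, 1, 3, 2, 3, 2]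
    [3, 5, 0, 1, 0, 2, 5, 4, 1] (by decide +kernel)

theorem mem_1766 (hf : Faithful) : sig s1766 ∈ qGroup :=
  (sl_1734_487 hf) ▸ qGroup.mul_mem (mem_1734 hf) (mem_487 hf)

theorem sl_1394_1766 (hf : Faithful) : sig s1394 * sig s1766 = sig s377 :=
  sline_mul hf (stabGens_fix hf) (sJ_mul_self hf) (base_line hf) [0, 1, 0, 2, 0, 1, 0, 2, 0, 1, 0, 1, 0, 2, 0, 2, 0, 2, 0, 2, 0, 1, 0, 2, 0, 2] 0 1 2
    [2, 0, 3, 5, 1, 0, 2, 3] [1, 2, 3, 4, 1, 0, 3, 5]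
    [1, 2, 0, 5, 0] (by decide +kernel)

theorem mem_377 (hf : Faithful) : sig s377 ∈ qGroup :=
  (sl_1394_1766 hf) ▸ qGroup.mul_mem (mem_1394 hf) (mem_1766 hf)

theorem sl_1024_3 (hf : Faithful) : sig s1024 * sig s3 = sig s143 :=
  sline_mul hf (stabGens_fix hf) (sJ_mul_self hf) (base_line hf) [0, 2, 0, 1, 0, 1, 0, 1, 0, 1, 0, 1, 0, 2, 0, 2, 0, 2] 1 0 2
    [1, 4, 5, 0, 5, 3, 5] [4, 1, 3, 1]
    [1, 2, 5, 5] (by decide +kernel)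

theorem mem_143 (hf : Faithful) : sig s143 ∈ qGroup :=
  (sl_1024_3 hf) ▸ qGroup.mul_mem (mem_1024) (mem_3)

theorem sl_143_37 (hf : Faithful) : sig s143 * sig s37 = sig s999 :=
  sline_mul hf (stabGens_fix hf) (sJ_mul_self hf) (base_line hf) [0, 2, 0, 1, 0, 1, 0] 2 0 1
    [3, 1, 3, 1, 3, 5] [1, 3, 1]
    [] (by decide +kernel)

theorem mem_999 (hf : Faithful) : sig s999 ∈ qGroup :=
  (sl_143_37 hf) ▸ qGroup.mul_mem (mem_143 hf) (mem_37 hf)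

theorem sl_68_999 (hf : Faithful) : sig s68 * sig s999 = sig s1102 :=
  sline_mul hf (stabGens_fix hf) (sJ_mul_self hf) (base_line hf) [2, 0, 1, 0, 1, 0, 1, 0, 1, 0, 2, 0, 1, 0, 2, 0, 2, 0, 2, 0, 2, 0, 1, 0, 1, 0] 2 0 1
    [5, 2, 0, 5, 5, 3, 0, 2] [1, 3]
    [5, 4, 1, 5, 5, 2, 3, 0] (by decide +kernel)

theorem mem_1102 (hf : Faithful) : sig s1102 ∈ qGroup :=
  (sl_68_999 hf) ▸ qGroup.mul_mem (mem_68) (mem_999 hf)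

theorem sl_1102_1724 (hf : Faithful) : sig s1102 * sig s1724 = sig s773 :=
  sline_mul hf (stabGens_fix hf) (sJ_mul_self hf) (base_line hf) [0, 2, 0, 1, 0, 1, 0, 2, 0, 2, 0, 2, 0, 1, 0, 2, 0, 1, 0, 1, 0, 2, 0, 2, 0, 2, 0, 2] 1 0 2
    [0, 1, 5, 3, 1, 3, 1, 4, 1] [1, 4, 5, 1, 4, 3, 0, 2]
    [1, 3, 1, 3, 5, 1, 2, 0] (by decide +kernel)

theorem mem_773 (hf : Faithful) : sig s773 ∈ qGroup :=
  (sl_1102_1724 hf) ▸ qGroup.mul_mem (mem_1102 hf) (mem_1724 hf)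

theorem sl_1411_987 (hf : Faithful) : sig s1411 * sig s987 = sig s500 :=
  sline_mul hf (stabGens_fix hf) (sJ_mul_self hf) (base_line hf) [0, 2, 0, 1, 0, 1, 0, 1, 0, 2, 0, 2, 0, 2, 0, 1, 0, 2, 0, 2] 1 2 0
    [4, 5, 1, 2, 0, 5, 1, 4] [4, 3, 4, 5, 1, 4, 1]
    [1, 3, 1] (by decide +kernel)

theorem mem_500 (hf : Faithful) : sig s500 ∈ qGroup :=
  (sl_1411_987 hf) ▸ qGroup.mul_mem (mem_1411 hf) (mem_987 hf)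

theorem sl_143_1662 (hf : Faithful) : sig s143 * sig s1662 = sig s1460 :=
  sline_mul hf (stabGens_fix hf) (sJ_mul_self hf) (base_line hf) [1, 0, 2, 0, 2, 0, 1, 0, 1, 0, 1, 0, 2, 0, 1, 0, 2, 0, 1, 0, 2, 0] 2 1 0
    [2, 0, 5, 5, 4, 3, 0, 1] [3, 5, 0, 3, 1, 4, 1, 0]
    [1, 0, 1, 4, 3, 5, 1, 0] (by decide +kernel)

theorem mem_1460 (hf : Faithful) : sig s1460 ∈ qGroup :=
  (sl_143_1662 hf) ▸ qGroup.mul_mem (mem_143 hf) (mem_1662 hf)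

theorem sl_1729_1724 (hf : Faithful) : sig s1729 * sig s1724 = sig s1515 :=
  sline_mul hf (stabGens_fix hf) (sJ_mul_self hf) (base_line hf) [2, 0, 2, 0, 2, 0, 1, 0, 2, 0, 1, 0, 2, 0, 2, 0, 2, 0, 1, 0, 2, 0, 2, 0, 1] 1 0 2
    [0, 1, 2, 5, 4, 5, 1, 4, 1] [4, 1, 5, 0, 3, 2, 4, 5]
    [5, 0, 3, 5, 1, 0, 1, 4] (by decide +kernel)

theorem mem_1515 (hf : Faithful) : sig s1515 ∈ qGroup :=
  (sl_1729_1724 hf) ▸ qGroup.mul_mem (mem_1729) (mem_1724 hf)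

theorem sl_1460_1515 (hf : Faithful) : sig s1460 * sig s1515 = sig s1270 :=
  sline_mul hf (stabGens_fix hf) (sJ_mul_self hf) (base_line hf) [0, 1, 0, 1, 0, 1, 0, 1, 0, 1, 0, 1, 0, 1, 0, 2, 0, 2, 0, 1, 0, 2, 0, 2, 0, 2, 0, 2] 2 1 0
    [4, 5, 0, 5, 5, 1, 3, 2] [5, 1, 4, 1, 5, 5, 2, 4]
    [1] (by decide +kernel)

theorem mem_1270 (hf : Faithful) : sig s1270 ∈ qGroup :=
  (sl_1460_1515 hf) ▸ qGroup.mul_mem (mem_1460 hf) (mem_1515 hf)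

theorem sl_500_1270 (hf : Faithful) : sig s500 * sig s1270 = sig s1468 :=
  sline_mul hf (stabGens_fix hf) (sJ_mul_self hf) (base_line hf) [1, 0, 2, 0, 1, 0, 2, 0, 2, 0, 2, 0, 2, 0, 1, 0, 1, 0, 1, 0, 2] 0 1 2
    [5, 4, 5, 4, 3, 2, 0] [5, 0, 2, 3, 1, 3, 2]
    [0, 5, 2, 4, 5, 5, 3, 4, 5] (by decide +kernel)

theorem mem_1468 (hf : Faithful) : sig s1468 ∈ qGroup :=
  (sl_500_1270 hf) ▸ qGroup.mul_mem (mem_500 hf) (mem_1270 hf)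

theorem sl_1281_1468 (hf : Faithful) : sig s1281 * sig s1468 = sig s1371 :=
  sline_mul hf (stabGens_fix hf) (sJ_mul_self hf) (base_line hf) [0, 1, 0, 1, 0, 2, 0, 1, 0, 2, 0, 2, 0, 2, 0, 2, 0, 1, 0, 2, 0, 1, 0, 1, 0, 2, 0, 2, 0, 2, 0] 0 2 1
    [5, 1, 3, 5, 5, 3, 5] [0, 1, 3, 2, 0, 5, 3, 4]
    [3, 0, 1, 5, 0, 3, 1, 4] (by decide +kernel)

theorem mem_1371 (hf : Faithful) : sig s1371 ∈ qGroup :=
  (sl_1281_1468 hf) ▸ qGroup.mul_mem (mem_1281 hf) (mem_1468 hf)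

theorem sl_143_1371 (hf : Faithful) : sig s143 * sig s1371 = sig s1545 :=
  sline_mul hf (stabGens_fix hf) (sJ_mul_self hf) (base_line hf) [2, 0, 1, 0, 1, 0, 1, 0, 2, 0, 2, 0, 1, 0, 1, 0, 1, 0, 2, 0] 0 1 2
    [1, 3, 0, 5, 3, 0, 1, 0, 1] [1, 0, 3, 5, 1, 4, 2, 3]
    [3, 5, 1, 4, 2, 5, 0] (by decide +kernel)

theorem mem_1545 (hf : Faithful) : sig s1545 ∈ qGroup :=
  (sl_143_1371 hf) ▸ qGroup.mul_mem (mem_143 hf) (mem_1371 hf)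

theorem sl_773_1545 (hf : Faithful) : sig s773 * sig s1545 = sig s1197 :=
  sline_mul hf (stabGens_fix hf) (sJ_mul_self hf) (base_line hf) [1, 0, 1, 0, 2, 0, 1, 0, 1, 0, 1, 0, 2, 0, 2, 0, 2, 0, 1, 0, 2, 0, 1] 1 0 2
    [5] [4, 5, 5, 4, 1, 0, 3, 4]
    [4, 1, 3, 5, 5, 3, 4, 1] (by decide +kernel)

theorem mem_1197 (hf : Faithful) : sig s1197 ∈ qGroup :=
  (sl_773_1545 hf) ▸ qGroup.mul_mem (mem_773 hf) (mem_1545 hf)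

theorem sl_253_1197 (hf : Faithful) : sig s253 * sig s1197 = sig s40 :=
  sline_mul hf (stabGens_fix hf) (sJ_mul_self hf) (base_line hf) [1, 0, 1, 0, 1, 0, 1, 0, 1, 0, 1, 0, 2, 0, 1] 1 2 0
    [] [0, 5, 1, 0, 3, 2, 5, 4]
    [] (by decide +kernel)

theorem mem_40 (hf : Faithful) : sig s40 ∈ qGroup :=
  (sl_253_1197 hf) ▸ qGroup.mul_mem (mem_253) (mem_1197 hf)

theorem sl_1331_1270 (hf : Faithful) : sig s1331 * sig s1270 = sig s548 :=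
  sline_mul hf (stabGens_fix hf) (sJ_mul_self hf) (base_line hf) [2, 0, 1, 0, 1, 0, 2, 0, 1, 0, 2, 0, 1, 0, 2, 0, 1, 0, 1, 0, 1, 0, 2, 0, 1, 0, 1, 0, 1] 0 2 1
    [5, 4, 5, 1, 4, 3, 2, 3] [1, 0, 1, 0, 5, 0, 5, 4, 2]
    [2, 5, 2, 4, 5, 4, 5, 0] (by decide +kernel)

theorem mem_548 (hf : Faithful) : sig s548 ∈ qGroup :=
  (sl_1331_1270 hf) ▸ qGroup.mul_mem (mem_1331 hf) (mem_1270 hf)

theorem sl_1765_548 (hf : Faithful) : sig s1765 * sig s548 = sig s1087 :=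
  sline_mul hf (stabGens_fix hf) (sJ_mul_self hf) (base_line hf) [0, 1, 0, 2, 0, 1, 0, 2, 0, 2, 0, 1, 0, 1, 0, 2, 0, 2, 0, 1, 0, 2, 0, 2, 0] 2 0 1
    [3, 1, 5, 5, 2, 4] [4, 3, 0, 1, 0, 5, 2, 0]
    [1, 2, 0, 5, 4, 5, 5, 0] (by decide +kernel)

theorem mem_1087 (hf : Faithful) : sig s1087 ∈ qGroup :=
  (sl_1765_548 hf) ▸ qGroup.mul_mem (mem_1765 hf) (mem_548 hf)

theorem sl_226_548 (hf : Faithful) : sig s226 * sig s548 = sig s1335 :=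
  sline_mul hf (stabGens_fix hf) (sJ_mul_self hf) (base_line hf) [2, 0, 2, 0, 1, 0, 1, 0, 2, 0, 2, 0, 2, 0, 1, 0, 1, 0, 1, 0, 2, 0] 2 0 1
    [2, 3, 0, 5, 3, 0, 2, 4] [2, 0, 5, 5, 4, 2, 5, 5]
    [1, 0, 5, 5, 5, 1, 3, 5] (by decide +kernel)

theorem mem_1335 (hf : Faithful) : sig s1335 ∈ qGroup :=
  (sl_226_548 hf) ▸ qGroup.mul_mem (mem_226 hf) (mem_548 hf)

theorem sl_773_1335 (hf : Faithful) : sig s773 * sig s1335 = sig s751 :=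
  sline_mul hf (stabGens_fix hf) (sJ_mul_self hf) (base_line hf) [2, 0, 2, 0, 2, 0, 2, 0, 2, 0, 1, 0, 1, 0, 1, 0, 1, 0, 1, 0, 1, 0, 2, 0, 2] 2 0 1
    [0, 5, 2, 5, 4, 5, 0, 2] [0, 1, 5, 1, 3, 4, 1, 0]
    [5, 1, 4, 3, 5, 1] (by decide +kernel)

theorem mem_751 (hf : Faithful) : sig s751 ∈ qGroup :=
  (sl_773_1335 hf) ▸ qGroup.mul_mem (mem_773 hf) (mem_1335 hf)

theorem sl_965_1515 (hf : Faithful) : sig s965 * sig s1515 = sig s7 :=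
  sline_mul hf (stabGens_fix hf) (sJ_mul_self hf) (base_line hf) [0, 2, 0, 2, 0, 1, 0, 2, 0, 1, 0, 1, 0, 1, 0, 2, 0, 1, 0, 1, 0, 1, 0, 1, 0, 2, 0] 2 1 0
    [1, 3, 2, 4, 3, 4] [1, 0, 5, 5, 3, 1, 0, 2, 0]
    [5, 0, 5, 1, 3, 1, 4] (by decide +kernel)

theorem mem_7 (hf : Faithful) : sig s7 ∈ qGroup :=
  (sl_965_1515 hf) ▸ qGroup.mul_mem (mem_965 hf) (mem_1515 hf)

theorem sl_1742_1765 (hf : Faithful) : sig s1742 * sig s1765 = sig s1740 :=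
  sline_mul hf (stabGens_fix hf) (sJ_mul_self hf) (base_line hf) [0, 1, 0, 1, 0, 1, 0, 2, 0, 2, 0, 2, 0, 2, 0, 2, 0, 1, 0, 2, 0, 1, 0, 1, 0, 2, 0, 2, 0, 2] 2 1 0
    [4, 3, 0, 5, 5, 4, 5, 2] [1, 5, 3, 4, 5, 1, 4]
    [5, 2, 0, 5, 5, 3, 0] (by decide +kernel)

theorem mem_1740 (hf : Faithful) : sig s1740 ∈ qGroup :=
  (sl_1742_1765 hf) ▸ qGroup.mul_mem (mem_1742 hf) (mem_1765 hf)

theorem sl_1740_487 (hf : Faithful) : sig s1740 * sig s487 = sig s1628 :=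
  sline_mul hf (stabGens_fix hf) (sJ_mul_self hf) (base_line hf) [0, 1, 0, 1, 0, 2, 0, 1, 0, 1, 0, 2, 0, 2, 0, 2, 0, 1, 0, 2, 0, 1] 1 0 2
    [5, 2, 3, 5, 4, 1, 0, 1] [1, 5, 5, 1, 3, 2, 3, 2]
    [1, 3, 1, 5, 0, 3, 0, 5] (by decide +kernel)

theorem mem_1628 (hf : Faithful) : sig s1628 ∈ qGroup :=
  (sl_1740_487 hf) ▸ qGroup.mul_mem (mem_1740 hf) (mem_487 hf)

theorem sl_7_1628 (hf : Faithful) : sig s7 * sig s1628 = sig s1178 :=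
  sline_mul hf (stabGens_fix hf) (sJ_mul_self hf) (base_line hf) [1, 0, 1, 0, 2, 0, 1, 0, 1, 0, 2, 0, 2, 0, 1, 0, 1, 0, 2, 0, 2, 0, 2, 0, 2, 0, 1] 1 0 2
    [3, 5, 2, 3, 0, 5, 5] [5, 5, 5, 0, 5, 1, 5]
    [4, 5, 1, 4, 5, 2, 5] (by decide +kernel)

theorem mem_1178 (hf : Faithful) : sig s1178 ∈ qGroup :=
  (sl_7_1628 hf) ▸ qGroup.mul_mem (mem_7 hf) (mem_1628 hf)

theorem sl_751_1178 (hf : Faithful) : sig s751 * sig s1178 = sig s522 :=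
  sline_mul hf (stabGens_fix hf) (sJ_mul_self hf) (base_line hf) [2, 0, 2, 0, 1, 0, 1, 0, 2, 0, 2, 0, 1, 0, 1, 0, 1, 0, 1, 0, 1, 0, 2, 0, 2] 0 1 2
    [4, 3, 4, 5, 2, 0] [0, 1, 4, 1, 3, 2, 5, 5]
    [5, 1, 5, 3, 2, 3, 4] (by decide +kernel)

theorem mem_522 (hf : Faithful) : sig s522 ∈ qGroup :=
  (sl_751_1178 hf) ▸ qGroup.mul_mem (mem_751 hf) (mem_1178 hf)

theorem sl_1087_522 (hf : Faithful) : sig s1087 * sig s522 = sig s1144 :=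
  sline_mul hf (stabGens_fix hf) (sJ_mul_self hf) (base_line hf) [0, 1, 0, 2, 0, 2, 0, 2, 0, 2, 0, 1, 0, 2, 0, 2, 0, 2, 0, 1, 0, 1, 0, 2, 0, 1] 1 2 0
    [2, 5, 0, 5, 1, 5, 5, 2] [0, 2, 3, 2, 5, 0, 3, 4, 3]
    [1, 3, 1, 4, 2, 5, 1, 4] (by decide +kernel)

theorem mem_1144 (hf : Faithful) : sig s1144 ∈ qGroup :=
  (sl_1087_522 hf) ▸ qGroup.mul_mem (mem_1087 hf) (mem_522 hf)

theorem sl_40_1144 (hf : Faithful) : sig s40 * sig s1144 = sig s1482 :=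
  sline_mul hf (stabGens_fix hf) (sJ_mul_self hf) (base_line hf) [0, 2, 0, 1, 0, 1, 0, 1, 0, 1, 0, 1, 0, 1, 0, 1, 0, 2, 0, 1] 0 2 1
    [1, 3, 1] [3, 1, 0, 3, 2, 3, 4]
    [1, 0, 5, 1, 3, 4, 1, 5, 3] (by decide +kernel)

theorem mem_1482 (hf : Faithful) : sig s1482 ∈ qGroup :=
  (sl_40_1144 hf) ▸ qGroup.mul_mem (mem_40 hf) (mem_1144 hf)

theorem sl_377_1482 (hf : Faithful) : sig s377 * sig s1482 = sig s1 :=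
  sline_mul hf (stabGens_fix hf) (sJ_mul_self hf) (base_line hf) [0, 2, 0, 1, 0, 1, 0, 1, 0, 1, 0, 1, 0, 2] 2 1 0
    [1, 2, 5, 5] [5, 0, 3, 1, 4, 1]
    [1, 3, 1] (by decide +kernel)

theorem mem_1 (hf : Faithful) : sig s1 ∈ qGroup :=
  (sl_377_1482 hf) ▸ qGroup.mul_mem (mem_377 hf) (mem_1482 hf)

theorem sl_988_1087 (hf : Faithful) : sig s988 * sig s1087 = sig s833 :=
  sline_mul hf (stabGens_fix hf) (sJ_mul_self hf) (base_line hf) [2, 0, 1, 0, 1, 0, 1, 0, 2, 0, 2, 0, 1, 0, 2, 0, 1, 0, 2, 0, 2] 2 1 0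
    [1, 0, 2, 0, 3] [0, 1, 0, 1, 0, 5, 0, 1]
    [1, 3] (by decide +kernel)

theorem mem_833 (hf : Faithful) : sig s833 ∈ qGroup :=
  (sl_988_1087 hf) ▸ qGroup.mul_mem (mem_988 hf) (mem_1087 hf)

theorem sl_1326_1724 (hf : Faithful) : sig s1326 * sig s1724 = sig s606 :=
  sline_mul hf (stabGens_fix hf) (sJ_mul_self hf) (base_line hf) [1, 0, 2, 0, 1, 0, 2, 0, 2, 0, 2, 0, 2, 0, 1, 0, 2, 0, 2, 0, 1, 0, 2, 0, 1, 0, 2, 0] 0 2 1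
    [3, 4, 2, 3, 0, 1, 4, 5] [2, 3, 1, 3, 5, 1, 5, 5, 4]
    [1, 0, 5, 2, 0, 5, 1, 5] (by decide +kernel)

theorem mem_606 (hf : Faithful) : sig s606 ∈ qGroup :=
  (sl_1326_1724 hf) ▸ qGroup.mul_mem (mem_1326 hf) (mem_1724 hf)

theorem sl_606_1468 (hf : Faithful) : sig s606 * sig s1468 = sig s1118 :=
  sline_mul hf (stabGens_fix hf) (sJ_mul_self hf) (base_line hf) [1, 0, 2, 0, 1, 0, 2, 0, 1, 0, 2, 0, 2, 0, 1, 0, 1, 0, 1, 0, 1, 0, 2] 1 2 0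
    [2] [1, 3, 0, 1, 4, 5, 5, 0, 2]
    [3, 2, 3, 4, 3, 0, 2, 4] (by decide +kernel)

theorem mem_1118 (hf : Faithful) : sig s1118 ∈ qGroup :=
  (sl_606_1468 hf) ▸ qGroup.mul_mem (mem_606 hf) (mem_1468 hf)

theorem sl_487_1118 (hf : Faithful) : sig s487 * sig s1118 = sig s493 :=
  sline_mul hf (stabGens_fix hf) (sJ_mul_self hf) (base_line hf) [2, 0, 2, 0, 1, 0, 2, 0, 1, 0, 2, 0, 2, 0, 2, 0, 2, 0, 1] 1 2 0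
    [2, 5, 2, 4, 5, 1, 0] [5, 2, 5, 2, 3, 1, 3, 2]
    [2, 3] (by decide +kernel)

theorem mem_493 (hf : Faithful) : sig s493 ∈ qGroup :=
  (sl_487_1118 hf) ▸ qGroup.mul_mem (mem_487 hf) (mem_1118 hf)

theorem sl_833_493 (hf : Faithful) : sig s833 * sig s493 = sig s545 :=
  sline_mul hf (stabGens_fix hf) (sJ_mul_self hf) (base_line hf) [0, 2, 0, 1, 0, 1, 0, 2, 0, 2, 0, 2, 0, 2, 0, 1, 0, 2, 0, 1] 0 2 1
    [0, 5, 0, 5, 0, 1, 3, 4] [3, 1, 3, 1, 3, 5]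
    [0, 2, 5, 0, 5, 0, 1, 3] (by decide +kernel)

theorem mem_545 (hf : Faithful) : sig s545 ∈ qGroup :=
  (sl_833_493 hf) ▸ qGroup.mul_mem (mem_833 hf) (mem_493 hf)

theorem sl_1545_545 (hf : Faithful) : sig s1545 * sig s545 = sig s793 :=
  sline_mul hf (stabGens_fix hf) (sJ_mul_self hf) (base_line hf) [2, 0, 1, 0, 1, 0, 2, 0, 2, 0, 1, 0, 2, 0, 2, 0, 2, 0, 1, 0, 1, 0, 1, 0, 2] 2 1 0
    [4, 1, 3, 2, 5, 3, 2] [0, 1, 5, 2, 3, 4, 3]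
    [0, 5, 4, 5, 2, 4, 3, 1] (by decide +kernel)

theorem mem_793 (hf : Faithful) : sig s793 ∈ qGroup :=
  (sl_1545_545 hf) ▸ qGroup.mul_mem (mem_1545 hf) (mem_545 hf)

theorem sl_487_833 (hf : Faithful) : sig s487 * sig s833 = sig s485 :=
  sline_mul hf (stabGens_fix hf) (sJ_mul_self hf) (base_line hf) [2, 0, 2, 0, 1, 0, 2, 0, 1, 0, 1, 0, 1, 0, 1, 0, 1] 2 1 0
    [0, 1, 5, 2, 3, 4, 5, 1, 3] [5, 0, 5, 4, 3, 5, 4]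
    [3] (by decide +kernel)

theorem mem_485 (hf : Faithful) : sig s485 ∈ qGroup :=
  (sl_487_833 hf) ▸ qGroup.mul_mem (mem_487 hf) (mem_833 hf)

theorem sl_1700_965 (hf : Faithful) : sig s1700 * sig s965 = sig s155 :=
  sline_mul hf (stabGens_fix hf) (sJ_mul_self hf) (base_line hf) [1, 0, 1, 0, 1, 0, 1, 0, 2, 0, 2, 0, 2, 0, 2, 0, 2, 0, 1, 0, 2, 0, 2, 0, 1, 0, 1, 0, 1] 2 0 1
    [0, 1, 3, 0, 5, 1, 5, 5, 4] [4]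
    [0, 5, 2, 0, 5, 5, 4, 1] (by decide +kernel)

theorem mem_155 (hf : Faithful) : sig s155 ∈ qGroup :=
  (sl_1700_965 hf) ▸ qGroup.mul_mem (mem_1700 hf) (mem_965 hf)

theorem sl_155_1335 (hf : Faithful) : sig s155 * sig s1335 = sig s1067 :=
  sline_mul hf (stabGens_fix hf) (sJ_mul_self hf) (base_line hf) [0, 2, 0, 1, 0, 1, 0, 2, 0, 2, 0, 1, 0, 2, 0, 1, 0, 1, 0, 1, 0, 1, 0, 2, 0, 1, 0, 1] 2 1 0
    [3, 1, 3, 1, 3, 5] [0, 3, 0, 2, 0, 5, 1, 2]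
    [3, 4, 3, 2, 3, 0] (by decide +kernel)

theorem mem_1067 (hf : Faithful) : sig s1067 ∈ qGroup :=
  (sl_155_1335 hf) ▸ qGroup.mul_mem (mem_155 hf) (mem_1335 hf)

theorem sl_759_1067 (hf : Faithful) : sig s759 * sig s1067 = sig s1368 :=
  sline_mul hf (stabGens_fix hf) (sJ_mul_self hf) (base_line hf) [1, 0, 1, 0, 2, 0, 1, 0, 1, 0, 2, 0, 1, 0, 1, 0, 1, 0, 1, 0, 2, 0, 2, 0, 1] 2 1 0
    [3, 1, 5, 5, 5, 3, 4, 5] [0, 2, 3, 2, 5, 4, 5, 2]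
    [3, 2, 4, 3, 2, 0, 5] (by decide +kernel)

theorem mem_1368 (hf : Faithful) : sig s1368 ∈ qGroup :=
  (sl_759_1067 hf) ▸ qGroup.mul_mem (mem_759 hf) (mem_1067 hf)

theorem sl_904_1368 (hf : Faithful) : sig s904 * sig s1368 = sig s147 :=
  sline_mul hf (stabGens_fix hf) (sJ_mul_self hf) (base_line hf) [2, 0, 1, 0, 1, 0, 2, 0, 2, 0, 1, 0, 1, 0, 2, 0, 1, 0, 2, 0, 2, 0, 2, 0, 1] 2 1 0
    [0, 1, 5, 1, 4, 1, 0] [4, 1, 3, 2, 5, 3, 4]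
    [1, 2, 3] (by decide +kernel)

theorem mem_147 (hf : Faithful) : sig s147 ∈ qGroup :=
  (sl_904_1368 hf) ▸ qGroup.mul_mem (mem_904 hf) (mem_1368 hf)

theorem sl_485_147 (hf : Faithful) : sig s485 * sig s147 = sig s206 :=
  sline_mul hf (stabGens_fix hf) (sJ_mul_self hf) (base_line hf) [0, 1, 0, 1, 0, 2, 0, 2, 0, 1, 0, 1, 0, 2, 0, 2, 0, 2, 0, 1, 0] 1 0 2
    [3, 1, 3, 0, 1, 0, 1, 0] [1, 0, 5, 2, 4, 3, 2]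
    [3, 1, 3, 1, 3] (by decide +kernel)

theorem mem_206 (hf : Faithful) : sig s206 ∈ qGroup :=
  (sl_485_147 hf) ▸ qGroup.mul_mem (mem_485 hf) (mem_147 hf)

theorem sl_1545_493 (hf : Faithful) : sig s1545 * sig s493 = sig s1419 :=
  sline_mul hf (stabGens_fix hf) (sJ_mul_self hf) (base_line hf) [0, 1, 0, 1, 0, 2, 0, 2, 0, 2, 0, 2, 0, 1, 0, 2, 0, 1, 0, 2, 0, 1] 0 2 1
    [1] [1, 3, 1, 3]
    [0, 5, 3, 0, 5, 1, 5, 1] (by decide +kernel)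

theorem mem_1419 (hf : Faithful) : sig s1419 ∈ qGroup :=
  (sl_1545_493 hf) ▸ qGroup.mul_mem (mem_1545 hf) (mem_493 hf)

theorem sl_1178_1419 (hf : Faithful) : sig s1178 * sig s1419 = sig s360 :=
  sline_mul hf (stabGens_fix hf) (sJ_mul_self hf) (base_line hf) [0, 2, 0, 2, 0, 1, 0, 1, 0, 2, 0, 2, 0, 1, 0, 1, 0, 2, 0, 1, 0] 2 1 0
    [] [2, 5, 1, 0, 3, 5, 5, 1]
    [3, 1] (by decide +kernel)

theorem mem_360 (hf : Faithful) : sig s360 ∈ qGroup :=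
  (sl_1178_1419 hf) ▸ qGroup.mul_mem (mem_1178 hf) (mem_1419 hf)

theorem sl_1332_360 (hf : Faithful) : sig s1332 * sig s360 = sig s100 :=
  sline_mul hf (stabGens_fix hf) (sJ_mul_self hf) (base_line hf) [0, 2, 0, 2, 0, 1, 0, 1, 0, 2, 0, 2, 0, 1, 0, 2, 0, 1, 0, 2, 0, 2, 0, 1, 0, 1, 0, 1, 0, 2, 0] 0 2 1
    [5, 4, 1, 3, 0, 5, 4] [0, 3, 1, 5, 5, 5, 4, 2, 3]
    [0, 5, 5, 0, 1, 3, 2, 4] (by decide +kernel)

theorem mem_100 (hf : Faithful) : sig s100 ∈ qGroup :=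
  (sl_1332_360 hf) ▸ qGroup.mul_mem (mem_1332 hf) (mem_360 hf)

theorem sl_149_214 (hf : Faithful) : sig s149 * sig s214 = sig s1517 :=
  sline_mul hf (stabGens_fix hf) (sJ_mul_self hf) (base_line hf) [0, 2, 0, 2, 0, 1, 0, 1, 0, 1, 0, 1, 0, 1, 0, 1, 0, 2, 0, 2, 0, 1, 0] 1 0 2
    [0, 1, 5, 3, 4, 5, 0] [3, 1]
    [1, 3, 4, 5, 1, 0, 2, 4] (by decide +kernel)

theorem mem_1517 (hf : Faithful) : sig s1517 ∈ qGroup :=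
  (sl_149_214 hf) ▸ qGroup.mul_mem (mem_149) (mem_214 hf)

theorem sl_591_1270 (hf : Faithful) : sig s591 * sig s1270 = sig s1018 :=
  sline_mul hf (stabGens_fix hf) (sJ_mul_self hf) (base_line hf) [0, 2, 0, 2, 0, 2, 0, 2, 0, 2, 0, 1, 0, 2, 0, 2, 0, 1, 0, 2, 0, 1] 0 1 2
    [0, 3, 1] [3, 0, 1, 4, 1, 4, 2, 4]
    [1, 3, 5, 1, 4, 5, 2, 0] (by decide +kernel)

theorem mem_1018 (hf : Faithful) : sig s1018 ∈ qGroup :=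
  (sl_591_1270 hf) ▸ qGroup.mul_mem (mem_591 hf) (mem_1270 hf)

theorem sl_1517_1018 (hf : Faithful) : sig s1517 * sig s1018 = sig s1047 :=
  sline_mul hf (stabGens_fix hf) (sJ_mul_self hf) (base_line hf) [2, 0, 2, 0, 2, 0, 2, 0, 2, 0, 1, 0, 2, 0, 1, 0, 2, 0, 2, 0, 1, 0, 1, 0] 0 1 2
    [1, 3, 4, 2, 3, 4, 3, 5, 4] [3, 1, 5, 3, 1]
    [3, 4, 1, 5, 5, 3] (by decide +kernel)

theorem mem_1047 (hf : Faithful) : sig s1047 ∈ qGroup :=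
  (sl_1517_1018 hf) ▸ qGroup.mul_mem (mem_1517 hf) (mem_1018 hf)

theorem sl_253_1047 (hf : Faithful) : sig s253 * sig s1047 = sig s76 :=
  sline_mul hf (stabGens_fix hf) (sJ_mul_self hf) (base_line hf) [1, 0, 1, 0, 2, 0, 1, 0, 2, 0, 1, 0, 1, 0, 2, 0, 2, 0, 2, 0, 1, 0, 2, 0, 1] 1 0 2
    [4, 3, 5] [1, 2, 5, 3, 4, 3, 5]
    [0, 2, 5, 0, 5, 4, 1] (by decide +kernel)

theorem mem_76 (hf : Faithful) : sig s76 ∈ qGroup :=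
  (sl_253_1047 hf) ▸ qGroup.mul_mem (mem_253) (mem_1047 hf)

theorem sl_1766_76 (hf : Faithful) : sig s1766 * sig s76 = sig s276 :=
  sline_mul hf (stabGens_fix hf) (sJ_mul_self hf) (base_line hf) [0, 1, 0, 1, 0, 2, 0, 2, 0, 1, 0, 2, 0, 2] 1 2 0
    [] [3, 1, 3]
    [1] (by decide +kernel)

theorem mem_276 (hf : Faithful) : sig s276 ∈ qGroup :=
  (sl_1766_76 hf) ▸ qGroup.mul_mem (mem_1766 hf) (mem_76 hf)

theorem sl_276_1482 (hf : Faithful) : sig s276 * sig s1482 = sig s144 :=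
  sline_mul hf (stabGens_fix hf) (sJ_mul_self hf) (base_line hf) [2, 0, 2, 0, 1, 0, 2, 0, 2, 0, 1, 0, 2, 0, 2] 0 1 2
    [3] [3, 1, 5, 3, 1]
    [3, 1, 5, 3, 2, 0, 5] (by decide +kernel)

theorem mem_144 (hf : Faithful) : sig s144 ∈ qGroup :=
  (sl_276_1482 hf) ▸ qGroup.mul_mem (mem_276 hf) (mem_1482 hf)

theorem sl_1047_360 (hf : Faithful) : sig s1047 * sig s360 = sig s443 :=
  sline_mul hf (stabGens_fix hf) (sJ_mul_self hf) (base_line hf) [0, 1, 0, 1, 0, 1, 0, 2, 0, 2, 0, 1, 0, 1, 0, 2, 0, 1, 0] 2 0 1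
    [0, 2, 5, 5, 5, 4, 3, 0] [1]
    [0, 2, 4, 5, 0, 5, 5, 5, 5] (by decide +kernel)

theorem mem_443 (hf : Faithful) : sig s443 ∈ qGroup :=
  (sl_1047_360 hf) ▸ qGroup.mul_mem (mem_1047 hf) (mem_360 hf)

theorem sl_1729_443 (hf : Faithful) : sig s1729 * sig s443 = sig s1739 :=
  sline_mul hf (stabGens_fix hf) (sJ_mul_self hf) (base_line hf) [1, 0, 2, 0, 1, 0, 2, 0, 1, 0, 2, 0, 2, 0, 1, 0, 1, 0, 2, 0, 2, 0, 1, 0, 1] 0 1 2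
    [0, 1, 2, 5, 1, 4, 1, 4] [5, 5, 0, 5, 1, 4, 5, 0]
    [1, 2, 0, 3, 5, 1, 0, 5] (by decide +kernel)

theorem mem_1739 (hf : Faithful) : sig s1739 ∈ qGroup :=
  (sl_1729_443 hf) ▸ qGroup.mul_mem (mem_1729) (mem_443 hf)

theorem sl_904_1628 (hf : Faithful) : sig s904 * sig s1628 = sig s1635 :=
  sline_mul hf (stabGens_fix hf) (sJ_mul_self hf) (base_line hf) [0, 2, 0, 1, 0, 1, 0, 2, 0, 2, 0, 2, 0, 2, 0, 1, 0, 1, 0, 1, 0, 2, 0, 2, 0, 1] 2 0 1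
    [0, 2, 5, 1, 4, 5, 5, 2] [4, 1, 0, 5, 2, 3, 4]
    [5, 2, 3, 4, 1, 0, 3] (by decide +kernel)

theorem mem_1635 (hf : Faithful) : sig s1635 ∈ qGroup :=
  (sl_904_1628 hf) ▸ qGroup.mul_mem (mem_904 hf) (mem_1628 hf)

theorem sl_155_1635 (hf : Faithful) : sig s155 * sig s1635 = sig s1707 :=
  sline_mul hf (stabGens_fix hf) (sJ_mul_self hf) (base_line hf) [0, 2, 0, 2, 0, 2, 0, 1, 0, 2, 0, 2, 0, 2, 0, 1, 0, 1, 0, 1, 0, 2, 0, 1, 0, 1] 2 1 0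
    [] [1, 2, 5, 0, 3, 2, 3]
    [0, 1, 5, 1, 4, 2, 3, 2, 4] (by decide +kernel)

theorem mem_1707 (hf : Faithful) : sig s1707 ∈ qGroup :=
  (sl_155_1635 hf) ▸ qGroup.mul_mem (mem_155 hf) (mem_1635 hf)

theorem sl_76_1707 (hf : Faithful) : sig s76 * sig s1707 = sig s200 :=
  sline_mul hf (stabGens_fix hf) (sJ_mul_self hf) (base_line hf) [0, 1, 0, 1, 0, 2, 0, 2, 0, 1, 0, 1, 0] 2 1 0
    [3, 1, 3, 1, 3] [3, 1, 3, 0, 1, 0, 1, 0]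
    [1] (by decide +kernel)

theorem mem_200 (hf : Faithful) : sig s200 ∈ qGroup :=
  (sl_76_1707 hf) ▸ qGroup.mul_mem (mem_76 hf) (mem_1707 hf)

theorem sl_143_76 (hf : Faithful) : sig s143 * sig s76 = sig s1693 :=
  sline_mul hf (stabGens_fix hf) (sJ_mul_self hf) (base_line hf) [0, 1, 0, 1, 0, 2, 0, 2, 0, 1, 0, 1] 0 2 1
    [1] [1, 3, 1, 3]
    [] (by decide +kernel)

theorem mem_1693 (hf : Faithful) : sig s1693 ∈ qGroup :=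
  (sl_143_76 hf) ▸ qGroup.mul_mem (mem_143 hf) (mem_76 hf)

theorem sl_1603_1693 (hf : Faithful) : sig s1603 * sig s1693 = sig s1359 :=
  sline_mul hf (stabGens_fix hf) (sJ_mul_self hf) (base_line hf) [2, 0, 1, 0, 1, 0, 1, 0, 2, 0, 2, 0, 2, 0, 1, 0, 2, 0, 1, 0, 2, 0, 2, 0, 1, 0, 2] 2 1 0
    [3, 5, 2, 3, 5, 1, 2, 3] [3, 2, 5, 0, 5, 5, 1, 4]
    [4, 1, 3, 0, 5, 5, 1, 0] (by decide +kernel)

theorem mem_1359 (hf : Faithful) : sig s1359 ∈ qGroup :=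
  (sl_1603_1693 hf) ▸ qGroup.mul_mem (mem_1603) (mem_1693 hf)

theorem sl_1742_1419 (hf : Faithful) : sig s1742 * sig s1419 = sig s306 :=
  sline_mul hf (stabGens_fix hf) (sJ_mul_self hf) (base_line hf) [0, 1, 0, 2, 0, 1, 0, 1, 0, 1, 0, 1, 0, 1, 0, 1, 0, 1, 0, 1, 0, 2, 0, 2] 2 0 1
    [1, 4, 3, 0, 5, 4, 1] [0, 5, 3, 0, 5, 1, 3, 4]
    [1, 3, 5, 0, 5, 0, 5, 1, 5] (by decide +kernel)

theorem mem_306 (hf : Faithful) : sig s306 ∈ qGroup :=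
  (sl_1742_1419 hf) ▸ qGroup.mul_mem (mem_1742 hf) (mem_1419 hf)

theorem sl_1359_306 (hf : Faithful) : sig s1359 * sig s306 = sig s5 :=
  sline_mul hf (stabGens_fix hf) (sJ_mul_self hf) (base_line hf) [2, 0, 2, 0, 1, 0, 1, 0, 2, 0, 1, 0, 2, 0, 1, 0, 2, 0, 1, 0, 2, 0, 1, 0, 1, 0, 1, 0, 1] 1 0 2
    [2, 5, 4, 5, 1, 2, 5, 0] [3, 5, 5, 0, 3, 4, 3]
    [5, 5, 5, 4, 1, 4, 3, 5] (by decide +kernel)

theorem mem_5 (hf : Faithful) : sig s5 ∈ qGroup :=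
  (sl_1359_306 hf) ▸ qGroup.mul_mem (mem_1359 hf) (mem_306 hf)

theorem sl_200_5 (hf : Faithful) : sig s200 * sig s5 = sig s813 :=
  sline_mul hf (stabGens_fix hf) (sJ_mul_self hf) (base_line hf) [0, 2, 0, 1, 0, 1, 0, 1, 0, 1, 0, 1, 0, 2, 0, 2, 0, 2, 0] 2 0 1
    [1, 2, 5, 5] [4, 1, 3, 1]
    [1, 4, 5, 0, 5, 3, 5] (by decide +kernel)

theorem mem_813 (hf : Faithful) : sig s813 ∈ qGroup :=
  (sl_200_5 hf) ▸ qGroup.mul_mem (mem_200 hf) (mem_5 hf)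

theorem sl_1627_1707 (hf : Faithful) : sig s1627 * sig s1707 = sig s913 :=
  sline_mul hf (stabGens_fix hf) (sJ_mul_self hf) (base_line hf) [0, 1, 0, 2, 0, 1, 0, 1, 0, 1, 0, 1, 0, 1, 0, 2, 0, 2, 0, 2, 0, 2, 0, 1, 0, 1, 0] 0 1 2
    [4, 5, 4, 2, 4, 3, 0, 5] [0, 2, 5, 2, 3, 4, 5, 4]
    [4, 1, 4, 1, 5, 5, 5] (by decide +kernel)

theorem mem_913 (hf : Faithful) : sig s913 ∈ qGroup :=
  (sl_1627_1707 hf) ▸ qGroup.mul_mem (mem_1627 hf) (mem_1707 hf)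

theorem sl_1460_76 (hf : Faithful) : sig s1460 * sig s76 = sig s994 :=
  sline_mul hf (stabGens_fix hf) (sJ_mul_self hf) (base_line hf) [0, 2, 0, 2, 0, 1, 0, 2, 0, 1, 0, 1, 0, 2, 0, 1, 0, 1, 0, 1, 0, 2] 1 2 0
    [5, 4, 5, 1, 3, 1] [1, 5]
    [0, 5, 0, 5, 0, 1, 3, 4] (by decide +kernel)

theorem mem_994 (hf : Faithful) : sig s994 ∈ qGroup :=
  (sl_1460_76 hf) ▸ qGroup.mul_mem (mem_1460 hf) (mem_76 hf)

theorem sl_1087_994 (hf : Faithful) : sig s1087 * sig s994 = sig s1625 :=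
  sline_mul hf (stabGens_fix hf) (sJ_mul_self hf) (base_line hf) [1, 0, 1, 0, 2, 0, 1, 0, 1, 0, 2, 0, 1, 0, 1, 0, 1, 0, 2] 1 0 2
    [3, 1, 3, 1, 3, 5] [1, 5, 0, 5, 1, 0, 5]
    [1, 0, 2, 0, 3, 5, 4] (by decide +kernel)

theorem mem_1625 (hf : Faithful) : sig s1625 ∈ qGroup :=
  (sl_1087_994 hf) ▸ qGroup.mul_mem (mem_1087 hf) (mem_994 hf)

theorem sl_913_1625 (hf : Faithful) : sig s913 * sig s1625 = sig s1593 :=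
  sline_mul hf (stabGens_fix hf) (sJ_mul_self hf) (base_line hf) [2, 0, 2, 0, 1, 0, 2, 0, 2, 0, 2, 0, 2, 0, 1, 0, 2, 0, 2, 0, 2, 0, 2] 0 2 1
    [1, 5, 1, 0, 2, 4, 5, 3] [1, 5, 3, 5, 5, 2, 0, 3]
    [5, 5, 3, 5, 1] (by decide +kernel)

theorem mem_1593 (hf : Faithful) : sig s1593 ∈ qGroup :=
  (sl_913_1625 hf) ▸ qGroup.mul_mem (mem_913 hf) (mem_1625 hf)

theorem sl_76_377 (hf : Faithful) : sig s76 * sig s377 = sig s275 :=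
  sline_mul hf (stabGens_fix hf) (sJ_mul_self hf) (base_line hf) [2, 0, 2, 0, 2, 0, 2, 0, 2, 0, 2, 0, 1, 0, 2, 0, 2, 0, 1] 1 0 2
    [3, 1, 5, 3, 1] [1, 0, 5, 3, 4, 5, 4, 3]
    [3, 0, 2, 0, 5, 5, 1] (by decide +kernel)

theorem mem_275 (hf : Faithful) : sig s275 ∈ qGroup :=
  (sl_76_377 hf) ▸ qGroup.mul_mem (mem_76 hf) (mem_377 hf)

theorem sl_1627_275 (hf : Faithful) : sig s1627 * sig s275 = sig s1678 :=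
  sline_mul hf (stabGens_fix hf) (sJ_mul_self hf) (base_line hf) [1, 0, 2, 0, 2, 0, 1, 0, 1, 0, 1, 0, 2, 0, 1, 0, 2, 0, 1, 0, 2, 0, 1, 0, 1] 1 2 0
    [0, 1, 3, 5, 3, 5, 1, 2, 0] [2, 0, 5, 5, 4, 3, 0, 1]
    [0, 5, 5, 1, 4] (by decide +kernel)

theorem mem_1678 (hf : Faithful) : sig s1678 ∈ qGroup :=
  (sl_1627_275 hf) ▸ qGroup.mul_mem (mem_1627 hf) (mem_275 hf)

theorem sl_733_1766 (hf : Faithful) : sig s733 * sig s1766 = sig s1507 :=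
  sline_mul hf (stabGens_fix hf) (sJ_mul_self hf) (base_line hf) [0, 2, 0, 2, 0, 1, 0, 2, 0, 1, 0, 1, 0, 1, 0, 1, 0, 2, 0, 2, 0, 2, 0, 1, 0, 2] 0 1 2
    [2, 3, 5, 4, 2, 5, 2] [0, 5, 5, 3, 5, 4, 2, 4]
    [1, 4, 3, 5, 1, 5, 0, 5] (by decide +kernel)

theorem mem_1507 (hf : Faithful) : sig s1507 ∈ qGroup :=
  (sl_733_1766 hf) ▸ qGroup.mul_mem (mem_733 hf) (mem_1766 hf)

theorem sl_1024_1507 (hf : Faithful) : sig s1024 * sig s1507 = sig s162 :=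
  sline_mul hf (stabGens_fix hf) (sJ_mul_self hf) (base_line hf) [2, 0, 1, 0, 1, 0, 2, 0, 2, 0, 1, 0, 2, 0, 2, 0, 2, 0, 1, 0, 2] 2 0 1
    [1, 3, 1, 0, 3, 1, 2] [0, 5, 4, 5, 2, 4, 3, 1]
    [0, 1, 5, 2, 3, 4, 3] (by decide +kernel)

theorem mem_162 (hf : Faithful) : sig s162 ∈ qGroup :=
  (sl_1024_1507 hf) ▸ qGroup.mul_mem (mem_1024) (mem_1507 hf)

theorem sl_162_1707 (hf : Faithful) : sig s162 * sig s1707 = sig s1558 :=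
  sline_mul hf (stabGens_fix hf) (sJ_mul_self hf) (base_line hf) [0, 2, 0, 2, 0, 1, 0, 1, 0, 1, 0, 1, 0, 1, 0, 2, 0, 1, 0, 2, 0, 2] 0 2 1
    [3, 1] [0, 2, 5, 4, 5, 4, 3, 2]
    [1, 0, 1, 3, 5, 1, 0, 3] (by decide +kernel)

theorem mem_1558 (hf : Faithful) : sig s1558 ∈ qGroup :=
  (sl_162_1707 hf) ▸ qGroup.mul_mem (mem_162 hf) (mem_1707 hf)

theorem sl_0_1558 (hf : Faithful) : sig s0 * sig s1558 = sig s644 :=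
  sline_mul hf (stabGens_fix hf) (sJ_mul_self hf) (base_line hf) [2, 0, 1, 0, 1, 0, 1, 0, 1, 0, 1, 0, 2, 0] 0 1 2
    [1, 3] [0, 3, 2, 4, 3, 5, 2, 4]
    [4, 2, 5, 4, 5, 1, 3, 1] (by decide +kernel)

theorem mem_644 (hf : Faithful) : sig s644 ∈ qGroup :=
  (sl_0_1558 hf) ▸ qGroup.mul_mem (mem_0) (mem_1558 hf)

theorem sl_1135_1558 (hf : Faithful) : sig s1135 * sig s1558 = sig s150 :=
  sline_mul hf (stabGens_fix hf) (sJ_mul_self hf) (base_line hf) [2, 0, 2, 0, 2, 0, 2, 0, 2, 0, 1, 0, 1, 0, 2, 0, 2, 0, 2, 0, 1, 0, 1, 0, 2, 0, 2] 1 0 2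
    [4, 5, 0, 2, 4, 3, 1, 3] [0, 2, 5, 3, 2, 5, 1, 4]
    [4, 2, 4, 5, 1, 4, 1, 5] (by decide +kernel)

theorem mem_150 (hf : Faithful) : sig s150 ∈ qGroup :=
  (sl_1135_1558 hf) ▸ qGroup.mul_mem (mem_1135 hf) (mem_1558 hf)

theorem sl_0_1545 (hf : Faithful) : sig s0 * sig s1545 = sig s69 :=
  sline_mul hf (stabGens_fix hf) (sJ_mul_self hf) (base_line hf) [1, 0, 1, 0, 1, 0, 1, 0, 2, 0, 2] 0 2 1
    [4] [3, 1, 0, 5, 5, 2]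
    [] (by decide +kernel)

theorem mem_69 (hf : Faithful) : sig s69 ∈ qGroup :=
  (sl_0_1545 hf) ▸ qGroup.mul_mem (mem_0) (mem_1545 hf)

theorem sl_1627_606 (hf : Faithful) : sig s1627 * sig s606 = sig s294 :=
  sline_mul hf (stabGens_fix hf) (sJ_mul_self hf) (base_line hf) [0, 1, 0, 1, 0, 1, 0, 1, 0, 1, 0, 1, 0, 1, 0, 1, 0, 2, 0, 1, 0, 2] 2 1 0
    [2, 3, 4, 5, 4, 5, 5, 1, 0] [3, 1, 5, 0, 3, 1]
    [1] (by decide +kernel)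

theorem mem_294 (hf : Faithful) : sig s294 ∈ qGroup :=
  (sl_1627_606 hf) ▸ qGroup.mul_mem (mem_1627 hf) (mem_606 hf)

theorem sl_294_1178 (hf : Faithful) : sig s294 * sig s1178 = sig s1033 :=
  sline_mul hf (stabGens_fix hf) (sJ_mul_self hf) (base_line hf) [1, 0, 2, 0, 1, 0, 2, 0, 2, 0, 2, 0, 2, 0, 2, 0, 1, 0, 1, 0, 2, 0, 1, 0] 1 0 2
    [0, 1, 5, 5, 5, 1, 0, 3, 5] [3, 1, 5, 3, 1, 3]
    [0, 1, 5, 5, 5, 5, 1, 2] (by decide +kernel)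

theorem mem_1033 (hf : Faithful) : sig s1033 ∈ qGroup :=
  (sl_294_1178 hf) ▸ qGroup.mul_mem (mem_294 hf) (mem_1178 hf)

theorem sl_1693_485 (hf : Faithful) : sig s1693 * sig s485 = sig s1116 :=
  sline_mul hf (stabGens_fix hf) (sJ_mul_self hf) (base_line hf) [2, 0, 1, 0, 1, 0, 1, 0, 2, 0, 1, 0, 2, 0, 2, 0, 1, 0, 2, 0, 1, 0, 1, 0, 1] 1 0 2
    [3, 1, 5, 3, 1] [1, 2, 3]
    [3, 5, 5, 4, 2, 3, 5, 5] (by decide +kernel)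

theorem mem_1116 (hf : Faithful) : sig s1116 ∈ qGroup :=
  (sl_1693_485 hf) ▸ qGroup.mul_mem (mem_1693 hf) (mem_485 hf)

theorem sl_1033_1116 (hf : Faithful) : sig s1033 * sig s1116 = sig s1254 :=
  sline_mul hf (stabGens_fix hf) (sJ_mul_self hf) (base_line hf) [2, 0, 2, 0, 2, 0, 1, 0, 2, 0, 1, 0, 2, 0, 2, 0, 1, 0, 1, 0, 2, 0, 1, 0, 2, 0, 1, 0] 2 0 1
    [4, 2, 5, 1, 0, 2, 5, 1] [0, 3]
    [2, 3, 2, 5, 4, 1, 3, 2] (by decide +kernel)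

theorem mem_1254 (hf : Faithful) : sig s1254 ∈ qGroup :=
  (sl_1033_1116 hf) ▸ qGroup.mul_mem (mem_1033 hf) (mem_1116 hf)

theorem sl_69_1254 (hf : Faithful) : sig s69 * sig s1254 = sig s254 :=
  sline_mul hf (stabGens_fix hf) (sJ_mul_self hf) (base_line hf) [0, 2, 0, 2, 0, 1, 0, 1, 0, 2, 0, 2, 0, 1, 0, 2, 0, 1, 0, 2, 0, 2, 0, 1, 0, 1, 0, 1, 0] 1 0 2
    [0, 5, 5, 0, 1, 3, 2, 4] [1, 0, 2, 3, 5, 0, 1, 5]
    [0, 3, 1, 5, 5, 5, 4, 2, 3] (by decide +kernel)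

theorem mem_254 (hf : Faithful) : sig s254 ∈ qGroup :=
  (sl_69_1254 hf) ▸ qGroup.mul_mem (mem_69 hf) (mem_1254 hf)

theorem sl_830_1144 (hf : Faithful) : sig s830 * sig s1144 = sig s1663 :=
  sline_mul hf (stabGens_fix hf) (sJ_mul_self hf) (base_line hf) [0, 1, 0, 2, 0, 2, 0, 2, 0, 2, 0, 1, 0, 1, 0, 2, 0, 2, 0, 1, 0, 1, 0, 1, 0, 1, 0] 0 2 1
    [3, 1, 4, 3, 0, 1, 4, 1] [0, 2, 5, 4, 2]
    [0, 5, 2, 4, 5, 4, 1, 3, 5] (by decide +kernel)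

theorem mem_1663 (hf : Faithful) : sig s1663 ∈ qGroup :=
  (sl_830_1144 hf) ▸ qGroup.mul_mem (mem_830 hf) (mem_1144 hf)

theorem sl_1394_76 (hf : Faithful) : sig s1394 * sig s76 = sig s1198 :=
  sline_mul hf (stabGens_fix hf) (sJ_mul_self hf) (base_line hf) [1, 0, 1, 0, 1, 0, 1, 0, 2, 0, 2, 0, 1, 0, 2, 0, 2, 0, 2, 0, 1] 2 0 1
    [1, 3, 5, 3, 0, 1, 3] [4]
    [] (by decide +kernel)

theorem mem_1198 (hf : Faithful) : sig s1198 ∈ qGroup :=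
  (sl_1394_76 hf) ▸ qGroup.mul_mem (mem_1394 hf) (mem_76 hf)

theorem sl_1734_76 (hf : Faithful) : sig s1734 * sig s76 = sig s651 :=
  sline_mul hf (stabGens_fix hf) (sJ_mul_self hf) (base_line hf) [0, 2, 0, 2, 0, 1, 0, 2, 0, 1, 0, 1, 0, 2, 0, 1, 0, 1, 0] 1 2 0
    [5, 4, 5, 1, 3, 1] [5]
    [3, 1] (by decide +kernel)

theorem mem_651 (hf : Faithful) : sig s651 ∈ qGroup :=
  (sl_1734_76 hf) ▸ qGroup.mul_mem (mem_1734 hf) (mem_76 hf)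

theorem sl_25_651 (hf : Faithful) : sig s25 * sig s651 = sig s1466 :=
  sline_mul hf (stabGens_fix hf) (sJ_mul_self hf) (base_line hf) [0, 2, 0, 1, 0, 1, 0, 1, 0, 2, 0, 1, 0, 1, 0, 2, 0, 1, 0, 1, 0] 2 0 1
    [5] [1, 3, 1]
    [0, 3, 4, 5, 2, 0, 5, 0] (by decide +kernel)

theorem mem_1466 (hf : Faithful) : sig s1466 ∈ qGroup :=
  (sl_25_651 hf) ▸ qGroup.mul_mem (mem_25 hf) (mem_651 hf)

theorem sc_0_811 (hf : Faithful) : sig s0 * sig s811 = sig s811 * sig s0 :=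
  comm_of_mul (sig_mul_self (sJ_mul_self hf) _) (sig_mul_self (sJ_mul_self hf) _)
    (sig_mul_self (sJ_mul_self hf) _) (sl_0_811 hf)

theorem sc_0_149 (hf : Faithful) : sig s0 * sig s149 = sig s149 * sig s0 :=
  sig_comm_conj hf (stabGens_fix hf) (sbase_0_1 hf) [2, 0, 2, 0, 1, 0, 1, 0, 2, 0, 2, 0, 2, 0, 2, 0, 2, 0, 2, 0, 2, 0, 2, 0, 1, 0, 2, 0, 2, 0, 2, 0, 1, 0, 2, 0, 1, 0, 1, 0, 2]
    [0, 3, 2, 4, 5, 4, 5, 5, 2]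
    [1, 5, 4, 3, 5, 5, 1] (by decide +kernel)

theorem sc_0_68 (hf : Faithful) : sig s0 * sig s68 = sig s68 * sig s0 :=
  comm_of_mul (sig_mul_self (sJ_mul_self hf) _) (sig_mul_self (sJ_mul_self hf) _)
    (sig_mul_self (sJ_mul_self hf) _) (sl_0_68 hf)

theorem sc_0_253 (hf : Faithful) : sig s0 * sig s253 = sig s253 * sig s0 :=
  sig_comm_conj hf (stabGens_fix hf) (sbase_0_1 hf) [1, 0, 1, 0, 2, 0, 2, 0, 2, 0, 1, 0, 1, 0, 1, 0, 1, 0, 1, 0, 1, 0, 2, 0, 2]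
    [4, 1, 3, 0]
    [0, 1, 2, 3, 2, 4, 5] (by decide +kernel)

theorem sc_0_201 (hf : Faithful) : sig s0 * sig s201 = sig s201 * sig s0 :=
  comm_of_mul (sig_mul_self (sJ_mul_self hf) _) (sig_mul_self (sJ_mul_self hf) _)
    (sig_mul_self (sJ_mul_self hf) _) (sl_0_201 hf)

theorem sc_0_1729 (hf : Faithful) : sig s0 * sig s1729 = sig s1729 * sig s0 :=
  sig_comm_conj hf (stabGens_fix hf) (sbase_0_10 hf) [1, 0, 1, 0, 2, 0, 2, 0, 2, 0, 2, 0, 2, 0, 1, 0, 2, 0, 1, 0, 2, 0, 1, 0, 1, 0, 1, 0, 1, 0, 1, 0, 2, 0]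
    [1, 3, 1, 3, 1, 3, 1, 0]
    [0, 3, 4, 3, 2, 3, 4, 2] (by decide +kernel)

theorem sc_0_1024 (hf : Faithful) : sig s0 * sig s1024 = sig s1024 * sig s0 :=
  sig_comm_conj hf (stabGens_fix hf) (sbase_0_1 hf) [0, 1, 0, 1, 0, 1, 0, 2, 0, 1, 0, 1, 0, 1, 0, 1, 0, 2, 0, 1, 0, 2, 0, 1, 0, 2, 0, 2, 0, 1, 0, 1, 0, 1, 0, 2, 0, 1, 0]
    [0, 3, 5, 0, 5, 1, 4]
    [1, 3, 5, 5, 1, 5, 3, 0, 5] (by decide +kernel)

theorem sc_0_1669 (hf : Faithful) : sig s0 * sig s1669 = sig s1669 * sig s0 :=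
  sig_comm_conj hf (stabGens_fix hf) (sbase_0_10 hf) [1, 0, 1, 0, 2, 0, 2, 0, 2, 0, 2, 0, 1, 0, 1, 0, 1, 0, 1, 0, 2, 0, 2]
    [4, 1, 0]
    [1, 3, 1, 2, 0, 5, 1, 0] (by decide +kernel)

theorem sc_0_3 (hf : Faithful) : sig s0 * sig s3 = sig s3 * sig s0 :=
  sig_comm_conj hf (stabGens_fix hf) (sbase_0_1 hf) [2]
    [4]
    [] (by decide +kernel)

theorem sc_0_1603 (hf : Faithful) : sig s0 * sig s1603 = sig s1603 * sig s0 :=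
  sig_comm_conj hf (stabGens_fix hf) (sbase_0_1 hf) [1, 0, 1, 0, 1, 0, 1, 0, 2, 0, 2, 0, 1, 0, 1, 0, 1, 0, 2, 0, 2, 0, 1, 0, 2, 0, 2, 0, 2, 0, 2, 0, 2, 0, 1, 0, 2, 0, 1, 0, 1]
    [0, 2, 5, 5, 3, 0, 1, 2]
    [0, 5, 2, 5, 5, 4, 2, 0] (by decide +kernel)

theorem sc_811_149 (hf : Faithful) : sig s811 * sig s149 = sig s149 * sig s811 :=
  sig_comm_conj hf (stabGens_fix hf) (sbase_0_1 hf) [1, 0, 2, 0, 1, 0, 1, 0, 2, 0, 1, 0, 2, 0, 2, 0, 2, 0, 1, 0, 1, 0, 1, 0, 1, 0, 1, 0, 1, 0, 1, 0, 2, 0, 2, 0, 2, 0, 2]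
    [5, 2, 5, 3, 5, 3, 0]
    [0, 1, 2, 3, 4, 5, 5, 4] (by decide +kernel)

theorem sc_811_68 (hf : Faithful) : sig s811 * sig s68 = sig s68 * sig s811 :=
  sig_comm_conj hf (stabGens_fix hf) (sbase_0_10 hf) [0, 2, 0, 1, 0, 1, 0, 2, 0, 1, 0, 1, 0, 1, 0, 2, 0, 2, 0, 1, 0, 2, 0, 2, 0, 2, 0, 2, 0, 1, 0, 2]
    [3, 4, 3, 5, 0, 5, 1]
    [3, 5, 3, 4, 1, 5, 2] (by decide +kernel)

theorem sc_811_253 (hf : Faithful) : sig s811 * sig s253 = sig s253 * sig s811 :=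
  sig_comm_conj hf (stabGens_fix hf) (sbase_0_1 hf) [0, 2, 0, 1, 0, 1, 0, 2, 0, 1, 0, 2, 0, 1, 0, 1, 0, 1, 0, 1, 0, 1, 0, 2, 0, 1, 0, 2, 0, 1, 0, 1, 0, 2]
    [2, 3, 4, 2, 5, 1, 5]
    [0, 5, 3, 1, 2, 3, 1, 4] (by decide +kernel)

theorem sc_811_201 (hf : Faithful) : sig s811 * sig s201 = sig s201 * sig s811 :=
  comm_of_mul (sig_mul_self (sJ_mul_self hf) _) (sig_mul_self (sJ_mul_self hf) _)
    (sig_mul_self (sJ_mul_self hf) _) (sl_811_201 hf)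

theorem sc_811_1729 (hf : Faithful) : sig s811 * sig s1729 = sig s1729 * sig s811 :=
  comm_of_mul (sig_mul_self (sJ_mul_self hf) _) (sig_mul_self (sJ_mul_self hf) _)
    (sig_mul_self (sJ_mul_self hf) _) (sl_811_1729 hf)

theorem sc_811_1024 (hf : Faithful) : sig s811 * sig s1024 = sig s1024 * sig s811 :=
  sig_comm_conj hf (stabGens_fix hf) (sbase_0_1 hf) [1, 0, 1, 0, 1, 0, 1, 0, 1, 0, 1, 0, 1, 0, 1, 0, 2, 0, 1, 0, 1, 0, 1, 0, 2, 0, 2, 0, 1, 0, 2, 0, 1, 0, 2]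
    [5, 0]
    [4, 2, 0, 3, 4, 5, 1, 4] (by decide +kernel)

theorem sc_811_1669 (hf : Faithful) : sig s811 * sig s1669 = sig s1669 * sig s811 :=
  comm_of_mul (sig_mul_self (sJ_mul_self hf) _) (sig_mul_self (sJ_mul_self hf) _)
    (sig_mul_self (sJ_mul_self hf) _) (sl_811_1669 hf)

theorem sc_811_3 (hf : Faithful) : sig s811 * sig s3 = sig s3 * sig s811 :=
  sig_comm_conj hf (stabGens_fix hf) (sbase_0_1 hf) [2, 0, 1, 0, 1, 0, 1, 0, 1, 0, 2, 0, 2, 0, 2, 0, 1, 0, 2, 0, 2, 0, 2, 0, 2, 0, 1, 0, 1, 0, 1, 0, 1, 0, 1, 0, 2, 0, 2]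
    [1, 3, 5, 5, 5, 1]
    [0, 3, 1, 2, 0, 3, 0, 2] (by decide +kernel)

theorem sc_811_1603 (hf : Faithful) : sig s811 * sig s1603 = sig s1603 * sig s811 :=
  sig_comm_conj hf (stabGens_fix hf) (sbase_0_1 hf) [0, 2, 0, 1, 0, 2, 0, 1, 0, 1, 0, 1, 0, 2, 0, 2, 0, 2, 0, 1, 0, 1, 0, 2, 0, 1, 0, 2, 0, 1, 0, 1, 0, 2, 0, 1, 0, 2]
    [3, 2, 3, 5, 2, 3, 0, 2]
    [1, 3, 5, 1, 0, 2, 3, 5, 1] (by decide +kernel)

theorem sc_149_68 (hf : Faithful) : sig s149 * sig s68 = sig s68 * sig s149 :=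
  sig_comm_conj hf (stabGens_fix hf) (sbase_0_1 hf) [2, 0, 2, 0, 1, 0, 2, 0, 2, 0, 2, 0, 1, 0, 1, 0, 1, 0, 2, 0, 2, 0, 1, 0, 2, 0, 1, 0, 2, 0, 2, 0, 2, 0, 1, 0, 1, 0, 1]
    [5, 5, 5, 0, 2, 3, 2]
    [2, 3, 2, 0, 3, 1, 4] (by decide +kernel)

theorem sc_149_253 (hf : Faithful) : sig s149 * sig s253 = sig s253 * sig s149 :=
  sig_comm_conj hf (stabGens_fix hf) (sbase_0_1 hf) [1, 0, 1, 0, 2, 0, 1, 0, 2, 0, 1, 0, 2, 0, 1, 0, 1, 0, 2, 0, 2, 0, 2, 0, 1, 0, 1, 0, 2, 0, 2, 0, 1, 0, 2, 0, 1, 0, 1]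
    [1, 5, 1, 5, 0, 5, 1, 0]
    [0, 1, 3, 0, 5, 5, 1, 2] (by decide +kernel)

theorem sc_149_201 (hf : Faithful) : sig s149 * sig s201 = sig s201 * sig s149 :=
  sig_comm_conj hf (stabGens_fix hf) (sbase_0_1 hf) [2, 0, 2, 0, 2, 0, 1, 0, 2, 0, 2, 0, 1, 0, 2, 0, 1, 0, 1, 0, 1, 0, 1, 0, 2, 0, 1, 0, 1, 0, 1, 0, 1, 0, 2, 0, 2, 0, 2, 0, 1]
    [5, 0, 3, 5, 0, 2, 0, 5, 0]
    [1, 3, 5, 1, 4, 3, 4, 5, 0] (by decide +kernel)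

theorem sc_149_1729 (hf : Faithful) : sig s149 * sig s1729 = sig s1729 * sig s149 :=
  sig_comm_conj hf (stabGens_fix hf) (sbase_0_1 hf) [2, 0, 1, 0, 2, 0, 2, 0, 2, 0, 1, 0, 2, 0, 2, 0, 2, 0, 2, 0, 1, 0, 2, 0, 2, 0, 2, 0, 1, 0, 1, 0, 1, 0, 2, 0, 2]
    [3, 5, 0, 1, 0, 5, 5, 4, 1]
    [5, 5, 0, 5, 5, 3, 1] (by decide +kernel)

theorem sc_149_1024 (hf : Faithful) : sig s149 * sig s1024 = sig s1024 * sig s149 :=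
  sig_comm_conj hf (stabGens_fix hf) (sbase_0_10 hf) [1, 0, 1, 0, 1, 0, 1, 0, 1, 0, 2, 0, 1, 0, 2, 0, 2, 0, 1, 0, 1, 0, 1, 0, 2, 0, 1, 0, 1, 0, 1, 0, 1]
    [3, 5, 3, 1, 3, 1, 3, 0]
    [0, 1, 2, 3, 1, 3, 2, 4] (by decide +kernel)

theorem sc_149_1669 (hf : Faithful) : sig s149 * sig s1669 = sig s1669 * sig s149 :=
  sig_comm_conj hf (stabGens_fix hf) (sbase_0_1 hf) [0, 1, 0, 1, 0, 2, 0, 1, 0, 2, 0, 1, 0, 2, 0, 2, 0, 2, 0, 2, 0, 1, 0, 1, 0, 2, 0, 2, 0, 2, 0, 1, 0, 1, 0, 2, 0, 1, 0, 1, 0, 1, 0]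
    [1, 2, 0, 3, 5, 3, 0]
    [4, 1, 5, 4, 1, 3, 4, 5] (by decide +kernel)

theorem sc_149_3 (hf : Faithful) : sig s149 * sig s3 = sig s3 * sig s149 :=
  sig_comm_conj hf (stabGens_fix hf) (sbase_0_1 hf) [2, 0, 2, 0, 2, 0, 2, 0, 1, 0, 2, 0, 1, 0, 1, 0, 1, 0, 1, 0, 2, 0, 1, 0, 2, 0, 2, 0, 1, 0, 1, 0, 1, 0, 2, 0]
    [1, 5, 1, 4, 5, 0, 5, 4]
    [1, 5, 2, 0, 3, 4, 5] (by decide +kernel)

theorem sc_149_1603 (hf : Faithful) : sig s149 * sig s1603 = sig s1603 * sig s149 :=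
  sig_comm_conj hf (stabGens_fix hf) (sbase_0_1 hf) [0, 2, 0, 1, 0, 2, 0, 2, 0, 2, 0, 1, 0, 2, 0, 1, 0, 2, 0, 1, 0, 2, 0, 1, 0, 2, 0, 2, 0, 2, 0, 1, 0, 1, 0, 2]
    [1, 5, 4, 2, 3, 5, 5, 4, 2]
    [4, 3, 0, 5, 4, 1, 0, 2] (by decide +kernel)

theorem sc_68_253 (hf : Faithful) : sig s68 * sig s253 = sig s253 * sig s68 :=
  comm_of_mul (sig_mul_self (sJ_mul_self hf) _) (sig_mul_self (sJ_mul_self hf) _)
    (sig_mul_self (sJ_mul_self hf) _) (sl_68_253 hf)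

theorem sc_68_201 (hf : Faithful) : sig s68 * sig s201 = sig s201 * sig s68 :=
  sig_comm_conj hf (stabGens_fix hf) (sbase_0_10 hf) [1, 0, 1, 0, 2, 0, 1, 0, 2, 0, 1, 0, 1, 0, 2, 0, 1, 0, 2, 0, 1, 0, 2, 0, 1, 0, 2, 0, 1]
    [3, 5, 2, 3, 0, 5, 0]
    [1, 2, 0, 5, 1, 2, 5, 5] (by decide +kernel)

theorem sc_68_1729 (hf : Faithful) : sig s68 * sig s1729 = sig s1729 * sig s68 :=
  sig_comm_conj hf (stabGens_fix hf) (sbase_0_1 hf) [0, 1, 0, 1, 0, 1, 0, 2, 0, 2, 0, 2, 0, 2, 0, 1, 0, 2, 0, 2, 0, 2, 0, 1, 0, 1, 0, 1, 0, 1, 0, 1, 0, 1, 0, 1, 0]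
    [0, 5, 4, 5, 2, 4, 5, 5, 0]
    [5, 1, 3, 5, 5, 1, 5, 3] (by decide +kernel)

theorem sc_68_1024 (hf : Faithful) : sig s68 * sig s1024 = sig s1024 * sig s68 :=
  sig_comm_conj hf (stabGens_fix hf) (sbase_0_1 hf) [0, 2, 0, 2, 0, 2, 0, 2, 0, 2, 0, 1, 0, 2, 0, 1, 0, 2, 0, 1, 0, 2, 0, 2, 0, 2, 0, 2, 0, 2, 0, 1, 0, 1, 0, 1, 0, 1, 0, 2, 0, 2]
    [5, 4, 3, 5, 0, 2, 4]
    [0, 2, 5, 0, 2, 0, 5, 5, 4] (by decide +kernel)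

theorem sc_68_1669 (hf : Faithful) : sig s68 * sig s1669 = sig s1669 * sig s68 :=
  sig_comm_conj hf (stabGens_fix hf) (sbase_0_1 hf) [0, 1, 0, 2, 0, 1, 0, 1, 0, 1, 0, 1, 0, 2, 0, 1, 0, 1, 0, 1, 0, 1, 0, 2, 0, 2, 0, 2, 0, 2, 0, 1]
    [4, 5, 5, 4, 1, 0, 3, 4]
    [1, 0, 5, 2, 4, 3, 1, 0] (by decide +kernel)

theorem sc_68_3 (hf : Faithful) : sig s68 * sig s3 = sig s3 * sig s68 :=
  sig_comm_conj hf (stabGens_fix hf) (sbase_0_1 hf) [1, 0, 2, 0, 1, 0, 1, 0, 1, 0, 2, 0, 1, 0, 2, 0, 1, 0, 1, 0, 1, 0, 2, 0, 1, 0, 2, 0, 1, 0, 2, 0, 1, 0, 2, 0, 1, 0, 2, 0]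
    [0, 3, 5, 5, 3, 0, 3]
    [3, 1, 0, 3, 1, 0, 1, 5] (by decide +kernel)

theorem sc_68_1603 (hf : Faithful) : sig s68 * sig s1603 = sig s1603 * sig s68 :=
  sig_comm_conj hf (stabGens_fix hf) (sbase_0_1 hf) [1, 0, 1, 0, 2, 0, 2, 0, 1, 0, 2, 0, 2, 0, 2, 0, 1, 0, 1, 0, 2, 0, 2, 0, 2, 0, 2, 0, 1, 0, 2, 0]
    [2, 5, 0, 1, 4, 5, 3]
    [4, 3, 2, 0, 3, 1, 0] (by decide +kernel)

theorem sc_253_201 (hf : Faithful) : sig s253 * sig s201 = sig s201 * sig s253 :=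
  sig_comm_conj hf (stabGens_fix hf) (sbase_0_1 hf) [0, 2, 0, 1, 0, 1, 0, 1, 0, 1, 0, 2, 0, 2, 0, 1, 0, 1, 0, 1, 0, 2, 0, 1, 0, 2, 0, 2, 0, 2, 0, 2, 0, 2, 0, 1, 0, 2, 0, 2, 0, 2]
    [4, 3, 2, 3, 5, 1, 3, 4]
    [4, 1, 0, 5, 5, 4, 2, 5, 5] (by decide +kernel)

theorem sc_253_1729 (hf : Faithful) : sig s253 * sig s1729 = sig s1729 * sig s253 :=
  sig_comm_conj hf (stabGens_fix hf) (sbase_0_1 hf) [0, 2, 0, 1, 0, 2, 0, 2, 0, 1, 0, 2, 0, 2, 0, 2, 0, 2, 0, 1, 0, 1, 0, 2, 0, 2, 0, 2, 0, 1, 0, 1, 0, 1, 0, 1, 0, 2, 0, 2, 0]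
    [4, 5, 0, 5, 3, 5, 2, 3]
    [4, 3, 4, 5, 4, 2, 3, 0] (by decide +kernel)

theorem sc_253_1024 (hf : Faithful) : sig s253 * sig s1024 = sig s1024 * sig s253 :=
  sig_comm_conj hf (stabGens_fix hf) (sbase_0_1 hf) [1, 0, 1, 0, 1, 0, 1, 0, 1, 0, 1, 0, 1, 0, 1, 0, 2, 0, 1, 0, 1, 0, 1, 0, 1, 0, 1, 0, 2, 0, 2, 0, 2]
    [3, 1, 3, 5, 0]
    [1, 4, 5, 0, 5, 3, 5, 5] (by decide +kernel)

theorem sc_253_1669 (hf : Faithful) : sig s253 * sig s1669 = sig s1669 * sig s253 :=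
  sig_comm_conj hf (stabGens_fix hf) (sbase_0_1 hf) [2, 0, 2, 0, 1, 0, 1, 0, 2, 0, 2, 0, 2, 0, 1, 0, 2, 0, 2, 0, 2, 0, 2, 0, 1, 0]
    [3, 0, 1, 5, 3, 0]
    [4, 2, 0, 5, 0, 1, 4, 1] (by decide +kernel)

theorem sc_253_3 (hf : Faithful) : sig s253 * sig s3 = sig s3 * sig s253 :=
  sig_comm_conj hf (stabGens_fix hf) (sbase_0_1 hf) [0, 1, 0, 1, 0, 2, 0, 2, 0, 2, 0, 1, 0, 1, 0, 1, 0, 1, 0, 1, 0, 1, 0, 1]
    [1, 5, 4, 1, 5, 3, 5]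
    [1, 3, 0] (by decide +kernel)

theorem sc_253_1603 (hf : Faithful) : sig s253 * sig s1603 = sig s1603 * sig s253 :=
  sig_comm_conj hf (stabGens_fix hf) (sbase_0_1 hf) [1, 0, 1, 0, 2, 0, 2, 0, 2, 0, 1, 0, 2, 0, 1, 0, 2, 0, 1, 0, 2, 0, 1, 0, 1, 0, 2, 0, 1, 0, 2, 0]
    [4, 3, 0]
    [4, 5, 5, 3, 5, 4, 3] (by decide +kernel)

theorem sc_201_1729 (hf : Faithful) : sig s201 * sig s1729 = sig s1729 * sig s201 :=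
  sig_comm_conj hf (stabGens_fix hf) (sbase_0_10 hf) [1, 0, 1, 0, 2, 0, 2, 0, 2, 0, 2, 0, 2, 0, 1, 0, 1, 0, 1, 0, 2, 0, 2, 0, 1, 0, 2, 0, 2, 0, 1]
    [1, 0, 3, 0, 1, 4, 3]
    [5, 2, 5, 3, 1, 3, 5] (by decide +kernel)

theorem sc_201_1024 (hf : Faithful) : sig s201 * sig s1024 = sig s1024 * sig s201 :=
  comm_of_mul (sig_mul_self (sJ_mul_self hf) _) (sig_mul_self (sJ_mul_self hf) _)
    (sig_mul_self (sJ_mul_self hf) _) (sl_201_1024 hf)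

theorem sc_201_1669 (hf : Faithful) : sig s201 * sig s1669 = sig s1669 * sig s201 :=
  comm_of_mul (sig_mul_self (sJ_mul_self hf) _) (sig_mul_self (sJ_mul_self hf) _)
    (sig_mul_self (sJ_mul_self hf) _) (sl_201_1669 hf)

theorem sc_201_3 (hf : Faithful) : sig s201 * sig s3 = sig s3 * sig s201 :=
  sig_comm_conj hf (stabGens_fix hf) (sbase_0_1 hf) [1, 0, 1, 0, 2, 0, 2, 0, 2, 0, 1, 0, 1, 0, 2, 0, 1, 0, 1, 0, 1, 0, 2, 0, 2, 0, 1, 0, 1, 0, 1, 0, 2, 0, 1, 0]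
    [3, 5, 2, 4, 5, 4, 2, 0]
    [3, 1, 0, 5, 1, 0, 5, 3, 4] (by decide +kernel)

theorem sc_201_1603 (hf : Faithful) : sig s201 * sig s1603 = sig s1603 * sig s201 :=
  sig_comm_conj hf (stabGens_fix hf) (sbase_0_1 hf) [0, 2, 0, 2, 0, 2, 0, 1, 0, 2, 0, 2, 0, 2, 0, 2, 0, 2, 0, 1, 0, 1, 0, 1, 0, 2, 0, 1, 0, 2, 0, 1, 0, 2, 0, 1, 0, 2]
    [0, 3, 5, 4, 3, 5]
    [1, 4, 3, 0, 2, 3, 1, 2] (by decide +kernel)

theorem sc_1729_1024 (hf : Faithful) : sig s1729 * sig s1024 = sig s1024 * sig s1729 :=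
  sig_comm_conj hf (stabGens_fix hf) (sbase_0_1 hf) [1, 0, 1, 0, 2, 0, 2, 0, 2, 0, 2, 0, 2, 0, 2, 0, 2, 0, 1, 0, 2, 0, 1, 0, 2, 0, 2, 0, 1, 0, 1, 0, 2, 0, 2, 0, 2, 0, 2, 0, 1]
    [3, 5, 1, 4, 1, 5, 5, 0]
    [2, 5, 1, 2, 3, 1, 4, 2] (by decide +kernel)

theorem sc_1729_1669 (hf : Faithful) : sig s1729 * sig s1669 = sig s1669 * sig s1729 :=
  sig_comm_conj hf (stabGens_fix hf) (sbase_0_1 hf) [2, 0, 2, 0, 2, 0, 1, 0, 2, 0, 1, 0, 1, 0, 1, 0, 1, 0, 2, 0, 2, 0, 1, 0, 1, 0, 2, 0, 2, 0, 2, 0, 1, 0, 1, 0, 2, 0, 1, 0]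
    [2, 5, 0, 1, 0, 1, 3, 5]
    [3, 0, 2, 0, 3, 4, 3] (by decide +kernel)

theorem sc_1729_3 (hf : Faithful) : sig s1729 * sig s3 = sig s3 * sig s1729 :=
  sig_comm_conj hf (stabGens_fix hf) (sbase_0_10 hf) [1, 0, 1, 0, 1, 0, 1, 0, 1, 0, 2, 0, 2, 0, 1, 0, 2, 0, 1, 0, 2, 0, 2, 0, 1, 0, 2, 0, 1, 0, 1, 0, 1, 0]
    [0, 2, 0, 5, 1, 0, 2, 0]
    [2, 5] (by decide +kernel)

theorem sc_1729_1603 (hf : Faithful) : sig s1729 * sig s1603 = sig s1603 * sig s1729 :=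
  sig_comm_conj hf (stabGens_fix hf) (sbase_0_1 hf) [0, 2, 0, 2, 0, 1, 0, 2, 0, 1, 0, 2, 0, 2, 0, 2, 0, 1, 0, 1, 0, 2, 0, 1, 0, 1, 0, 1, 0, 1, 0, 1, 0, 1, 0, 2, 0, 2, 0]
    [0, 5, 4, 5, 4, 1, 5, 4, 5]
    [3, 0, 3, 0, 1, 4, 2] (by decide +kernel)

theorem sc_1024_1669 (hf : Faithful) : sig s1024 * sig s1669 = sig s1669 * sig s1024 :=
  sig_comm_conj hf (stabGens_fix hf) (sbase_0_1 hf) [0, 1, 0, 1, 0, 2, 0, 2, 0, 1, 0, 2, 0, 1, 0, 2, 0, 1, 0, 2, 0, 1, 0, 2, 0, 2, 0, 2, 0, 2, 0, 2, 0, 1, 0, 2]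
    [1, 0, 2, 3, 2, 4, 5, 3]
    [0, 1, 3, 0, 5, 5, 4, 2, 3] (by decide +kernel)

theorem sc_1024_3 (hf : Faithful) : sig s1024 * sig s3 = sig s3 * sig s1024 :=
  comm_of_mul (sig_mul_self (sJ_mul_self hf) _) (sig_mul_self (sJ_mul_self hf) _)
    (sig_mul_self (sJ_mul_self hf) _) (sl_1024_3 hf)

theorem sc_1024_1603 (hf : Faithful) : sig s1024 * sig s1603 = sig s1603 * sig s1024 :=
  sig_comm_conj hf (stabGens_fix hf) (sbase_0_1 hf) [1, 0, 1, 0, 2, 0, 1, 0, 1, 0, 2, 0, 1, 0, 2, 0, 1, 0, 2, 0, 1, 0, 2, 0, 1, 0, 2, 0, 1, 0, 1, 0, 1, 0, 2, 0, 2, 0, 2]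
    [0, 2, 3, 4, 3, 0, 5, 4, 3]
    [1, 3, 0, 5, 0, 3, 0, 2] (by decide +kernel)

theorem sc_1669_3 (hf : Faithful) : sig s1669 * sig s3 = sig s3 * sig s1669 :=
  sig_comm_conj hf (stabGens_fix hf) (sbase_0_1 hf) [1, 0, 1, 0, 1, 0, 1, 0, 2, 0, 1, 0, 2, 0, 2, 0, 2, 0, 1, 0, 2, 0, 1, 0, 2, 0, 1, 0, 2, 0, 2, 0, 2, 0, 1, 0, 2, 0, 1, 0, 1]
    [2, 3, 1, 0, 1, 5, 0, 2]
    [5, 4, 5, 5, 5, 4, 3] (by decide +kernel)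

theorem sc_1669_1603 (hf : Faithful) : sig s1669 * sig s1603 = sig s1603 * sig s1669 :=
  sig_comm_conj hf (stabGens_fix hf) (sbase_0_1 hf) [0, 1, 0, 1, 0, 2, 0, 1, 0, 1, 0, 1, 0, 2, 0, 1, 0, 2, 0, 1, 0, 1, 0, 2, 0, 1, 0, 2, 0, 1, 0, 2, 0]
    [0, 5, 0, 3, 5, 1, 3, 2]
    [2, 4, 5, 1, 2, 5, 2] (by decide +kernel)

theorem sc_3_1603 (hf : Faithful) : sig s3 * sig s1603 = sig s1603 * sig s3 :=
  sig_comm_conj hf (stabGens_fix hf) (sbase_0_1 hf) [2, 0, 1, 0, 2, 0, 2, 0, 2, 0, 1, 0, 1, 0, 1, 0, 2, 0, 1, 0, 2, 0, 2, 0, 1, 0, 1, 0, 1, 0, 2, 0, 2, 0, 2, 0, 1]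
    [5, 5, 5, 4, 1, 5]
    [3, 2, 4, 3, 1, 4, 2, 3] (by decide +kernel)

theorem img_x_0 (hf : Faithful) : sig (s0 ++ [0]) ∈ qGroup :=
  sig_eq hf (stabGens_fix hf) (v := s0 ++ [0]) (w := s1)
    [] (by decide +kernel) ▸ mem_1 hf

theorem img_x_811 (hf : Faithful) : sig (s811 ++ [0]) ∈ qGroup :=
  sig_eq hf (stabGens_fix hf) (v := s811 ++ [0]) (w := s793)
    [4, 3, 5] (by decide +kernel) ▸ mem_793 hf

theorem img_x_149 (hf : Faithful) : sig (s149 ++ [0]) ∈ qGroup :=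
  sig_eq hf (stabGens_fix hf) (v := s149 ++ [0]) (w := s206)
    [] (by decide +kernel) ▸ mem_206 hf

theorem img_x_68 (hf : Faithful) : sig (s68 ++ [0]) ∈ qGroup :=
  sig_eq hf (stabGens_fix hf) (v := s68 ++ [0]) (w := s100)
    [] (by decide +kernel) ▸ mem_100 hf

theorem img_x_253 (hf : Faithful) : sig (s253 ++ [0]) ∈ qGroup :=
  sig_eq hf (stabGens_fix hf) (v := s253 ++ [0]) (w := s360)
    [] (by decide +kernel) ▸ mem_360 hf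

theorem img_x_201 (hf : Faithful) : sig (s201 ++ [0]) ∈ qGroup :=
  sig_eq hf (stabGens_fix hf) (v := s201 ++ [0]) (w := s144)
    [] (by decide +kernel) ▸ mem_144 hf

theorem img_x_1729 (hf : Faithful) : sig (s1729 ++ [0]) ∈ qGroup :=
  sig_eq hf (stabGens_fix hf) (v := s1729 ++ [0]) (w := s1739)
    [1, 2, 3, 5, 3, 5, 5, 1] (by decide +kernel) ▸ mem_1739 hf

theorem img_x_1024 (hf : Faithful) : sig (s1024 ++ [0]) ∈ qGroup :=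
  sig_eq hf (stabGens_fix hf) (v := s1024 ++ [0]) (w := s813)
    [] (by decide +kernel) ▸ mem_813 hf

theorem img_x_1669 (hf : Faithful) : sig (s1669 ++ [0]) ∈ qGroup :=
  sig_eq hf (stabGens_fix hf) (v := s1669 ++ [0]) (w := s1593)
    [] (by decide +kernel) ▸ mem_1593 hf

theorem img_x_3 (hf : Faithful) : sig (s3 ++ [0]) ∈ qGroup :=
  sig_eq hf (stabGens_fix hf) (v := s3 ++ [0]) (w := s5)
    [] (by decide +kernel) ▸ mem_5 hf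

theorem img_x_1603 (hf : Faithful) : sig (s1603 ++ [0]) ∈ qGroup :=
  sig_eq hf (stabGens_fix hf) (v := s1603 ++ [0]) (w := s1678)
    [] (by decide +kernel) ▸ mem_1678 hf

theorem img_y_0 (hf : Faithful) : sig (s0 ++ [1]) ∈ qGroup :=
  sig_eq hf (stabGens_fix hf) (v := s0 ++ [1]) (w := s0)
    [4] (by decide +kernel) ▸ mem_0

theorem img_y_811 (hf : Faithful) : sig (s811 ++ [1]) ∈ qGroup :=
  sig_eq hf (stabGens_fix hf) (v := s811 ++ [1]) (w := s644)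
    [] (by decide +kernel) ▸ mem_644 hf

theorem img_y_149 (hf : Faithful) : sig (s149 ++ [1]) ∈ qGroup :=
  sig_eq hf (stabGens_fix hf) (v := s149 ++ [1]) (w := s150)
    [] (by decide +kernel) ▸ mem_150 hf

theorem img_y_68 (hf : Faithful) : sig (s68 ++ [1]) ∈ qGroup :=
  sig_eq hf (stabGens_fix hf) (v := s68 ++ [1]) (w := s69)
    [] (by decide +kernel) ▸ mem_69 hf

theorem img_y_253 (hf : Faithful) : sig (s253 ++ [1]) ∈ qGroup :=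
  sig_eq hf (stabGens_fix hf) (v := s253 ++ [1]) (w := s254)
    [] (by decide +kernel) ▸ mem_254 hf

theorem img_y_201 (hf : Faithful) : sig (s201 ++ [1]) ∈ qGroup :=
  sig_eq hf (stabGens_fix hf) (v := s201 ++ [1]) (w := s275)
    [] (by decide +kernel) ▸ mem_275 hf

theorem img_y_1729 (hf : Faithful) : sig (s1729 ++ [1]) ∈ qGroup :=
  sig_eq hf (stabGens_fix hf) (v := s1729 ++ [1]) (w := s1663)
    [] (by decide +kernel) ▸ mem_1663 hf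

theorem img_y_1024 (hf : Faithful) : sig (s1024 ++ [1]) ∈ qGroup :=
  sig_eq hf (stabGens_fix hf) (v := s1024 ++ [1]) (w := s1198)
    [] (by decide +kernel) ▸ mem_1198 hf

theorem img_y_1669 (hf : Faithful) : sig (s1669 ++ [1]) ∈ qGroup :=
  sig_eq hf (stabGens_fix hf) (v := s1669 ++ [1]) (w := s1678)
    [3, 5, 5, 4, 5, 5, 0, 3] (by decide +kernel) ▸ mem_1678 hf

theorem img_y_3 (hf : Faithful) : sig (s3 ++ [1]) ∈ qGroup :=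
  sig_eq hf (stabGens_fix hf) (v := s3 ++ [1]) (w := s1)
    [] (by decide +kernel) ▸ mem_1 hf

theorem img_y_1603 (hf : Faithful) : sig (s1603 ++ [1]) ∈ qGroup :=
  sig_eq hf (stabGens_fix hf) (v := s1603 ++ [1]) (w := s1466)
    [] (by decide +kernel) ▸ mem_1466 hf

theorem qGens_comm (hf : Faithful) : ∀ a ∈ qGens, ∀ b ∈ qGens, a * b = b * a := by
  simp only [qGens, List.forall_mem_cons, List.not_mem_nil, IsEmpty.forall_iff, implies_true,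
    and_true, true_and]
  exact ⟨⟨(sc_0_811 hf), (sc_0_149 hf), (sc_0_68 hf), (sc_0_253 hf), (sc_0_201 hf), (sc_0_1729 hf), (sc_0_1024 hf), (sc_0_1669 hf), (sc_0_3 hf), (sc_0_1603 hf)⟩,
    ⟨(sc_0_811 hf).symm, (sc_811_149 hf), (sc_811_68 hf), (sc_811_253 hf), (sc_811_201 hf), (sc_811_1729 hf), (sc_811_1024 hf), (sc_811_1669 hf), (sc_811_3 hf), (sc_811_1603 hf)⟩,
    ⟨(sc_0_149 hf).symm, (sc_811_149 hf).symm, (sc_149_68 hf), (sc_149_253 hf), (sc_149_201 hf), (sc_149_1729 hf), (sc_149_1024 hf), (sc_149_1669 hf), (sc_149_3 hf), (sc_149_1603 hf)⟩,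
    ⟨(sc_0_68 hf).symm, (sc_811_68 hf).symm, (sc_149_68 hf).symm, (sc_68_253 hf), (sc_68_201 hf), (sc_68_1729 hf), (sc_68_1024 hf), (sc_68_1669 hf), (sc_68_3 hf), (sc_68_1603 hf)⟩,
    ⟨(sc_0_253 hf).symm, (sc_811_253 hf).symm, (sc_149_253 hf).symm, (sc_68_253 hf).symm, (sc_253_201 hf), (sc_253_1729 hf), (sc_253_1024 hf), (sc_253_1669 hf), (sc_253_3 hf), (sc_253_1603 hf)⟩,
    ⟨(sc_0_201 hf).symm, (sc_811_201 hf).symm, (sc_149_201 hf).symm, (sc_68_201 hf).symm, (sc_253_201 hf).symm, (sc_201_1729 hf), (sc_201_1024 hf), (sc_201_1669 hf), (sc_201_3 hf), (sc_201_1603 hf)⟩,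
    ⟨(sc_0_1729 hf).symm, (sc_811_1729 hf).symm, (sc_149_1729 hf).symm, (sc_68_1729 hf).symm, (sc_253_1729 hf).symm, (sc_201_1729 hf).symm, (sc_1729_1024 hf), (sc_1729_1669 hf), (sc_1729_3 hf), (sc_1729_1603 hf)⟩,
    ⟨(sc_0_1024 hf).symm, (sc_811_1024 hf).symm, (sc_149_1024 hf).symm, (sc_68_1024 hf).symm, (sc_253_1024 hf).symm, (sc_201_1024 hf).symm, (sc_1729_1024 hf).symm, (sc_1024_1669 hf), (sc_1024_3 hf), (sc_1024_1603 hf)⟩,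
    ⟨(sc_0_1669 hf).symm, (sc_811_1669 hf).symm, (sc_149_1669 hf).symm, (sc_68_1669 hf).symm, (sc_253_1669 hf).symm, (sc_201_1669 hf).symm, (sc_1729_1669 hf).symm, (sc_1024_1669 hf).symm, (sc_1669_3 hf), (sc_1669_1603 hf)⟩,
    ⟨(sc_0_3 hf).symm, (sc_811_3 hf).symm, (sc_149_3 hf).symm, (sc_68_3 hf).symm, (sc_253_3 hf).symm, (sc_201_3 hf).symm, (sc_1729_3 hf).symm, (sc_1024_3 hf).symm, (sc_1669_3 hf).symm, (sc_3_1603 hf)⟩,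
    ⟨(sc_0_1603 hf).symm, (sc_811_1603 hf).symm, (sc_149_1603 hf).symm, (sc_68_1603 hf).symm, (sc_253_1603 hf).symm, (sc_201_1603 hf).symm, (sc_1729_1603 hf).symm, (sc_1024_1603 hf).symm, (sc_1669_1603 hf).symm, (sc_3_1603 hf).symm⟩⟩

theorem qGroup_x (hf : Faithful) : ∀ g ∈ qGens, (wv [0])⁻¹ * g * wv [0] ∈ qGroup := by
  simp only [qGens, List.forall_mem_cons, List.not_mem_nil, IsEmpty.forall_iff, implies_true,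
    and_true, ← sig_append]
  exact ⟨img_x_0 hf, img_x_811 hf, img_x_149 hf, img_x_68 hf, img_x_253 hf, img_x_201 hf, img_x_1729 hf, img_x_1024 hf, img_x_1669 hf, img_x_3 hf, img_x_1603 hf⟩

theorem qGroup_y (hf : Faithful) : ∀ g ∈ qGens, (wv [1])⁻¹ * g * wv [1] ∈ qGroup := by
  simp only [qGens, List.forall_mem_cons, List.not_mem_nil, IsEmpty.forall_iff, implies_true,
    and_true, ← sig_append]
  exact ⟨img_y_0 hf, img_y_811 hf, img_y_149 hf, img_y_68 hf, img_y_253 hf, img_y_201 hf, img_y_1729 hf, img_y_1024 hf, img_y_1669 hf, img_y_3 hf, img_y_1603 hf⟩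

theorem sJ_mem_qGroup : sJ ∈ qGroup := by
  rw [← sig_nil]
  exact mem_0

end CfsgLib.JankoFour.HBound
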