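import Cfsg.Agent.JankoFour.HData.Trios

/-!
Generated facts: `s` is an involution centralised by the stabiliser of its sextet, and three collinear
conjugates multiply to the identity.
-/

set_option autoImplicit false
set_option maxRecDepth 20000

namespace CfsgLib.JankoFour.HBound

open CfsgLib.JankoFour

local notation "J" => Cfsg.Spor.J4

/-- A word. -/
def g0 : List ℕ := [2]

/-- A word. -/
def g1 : List ℕ := [0, 1, 0, 2, 0, 2, 0, 2, 0, 2, 0, 1, 0, 1, 0, 1, 0, 1, 0, 2, 0]

/-- A word. -/
def g2 : List ℕ := [0, 2, 0, 2, 0, 2, 0, 1, 0, 1, 0, 2, 0, 2, 0, 1, 0, 1, 0, 1, 0]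

/-- A word. -/
def g3 : List ℕ := [0, 1, 0, 2, 0, 2, 0, 2, 0, 1, 0, 2, 0, 1, 0, 1, 0, 1, 0, 2, 0]

/-- A word. -/
def g4 : List ℕ := [1]

/-- A word. -/
def g5 : List ℕ := [0, 1, 0, 1, 0, 1, 0, 2, 0, 2, 0, 1, 0, 2, 0, 2, 0, 2, 0, 2, 0, 2, 0, 2, 0, 2, 0]

/-- Generators of the stabiliser of the sextet of `sJ`. -/
def stabGens : List (List ℕ) := [g0, g1, g2, g3, g4, g5]

theorem s_taus0 (hf : Faithful) : sig [] = tau w87 * (tau w86 * (tau w67 * 1)) := by
  rw [sig_eq_taus,
    tau_eq hf (v := sW ++ [1, 1] ++ []) (w := w87)
      [] (by decide +kernel),
    tau_eq hf (v := sW ++ [1] ++ []) (w := w86)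
      [] (by decide +kernel),
    tau_eq hf (v := sW ++ []) (w := w67)
      [] (by decide +kernel)]

theorem sJ_mul_self (hf : Faithful) : sJ * sJ = 1 := by
  rw [← sig_nil, s_taus0 hf]
  simp only [mul_assoc, one_mul]
  exact sq_line hf

theorem g_taus0 (hf : Faithful) : sig g0 = tau w86 * (tau w67 * (tau w87 * 1)) := by
  rw [sig_eq_taus,
    tau_eq hf (v := sW ++ [1, 1] ++ g0) (w := w86)
      [] (by decide +kernel),
    tau_eq hf (v := sW ++ [1] ++ g0) (w := w67)
      [] (by decide +kernel),
    tau_eq hf (v := sW ++ g0) (w := w87)
      [] (by decide +kernel)]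

theorem gen_fix0 (hf : Faithful) : sig g0 = sJ :=
  (g_taus0 hf).trans ((stab_line0 hf).symm.trans ((s_taus0 hf).symm.trans sig_nil))

theorem g_taus1 (hf : Faithful) : sig g1 = tau w2221 * (tau w250 * (tau w67 * 1)) := by
  rw [sig_eq_taus,
    tau_eq hf (v := sW ++ [1, 1] ++ g1) (w := w2221)
      [true, false, true, true, true, false, true, false, true, false, true, true, false, true, true, false, true, true, true, false, true, true, true] (by decide +kernel),
    tau_eq hf (v := sW ++ [1] ++ g1) (w := w250)
      [true, false, true, false, true, true, true, false, true, true, false, true, true, true, false, true, false, true, false, true, false] (by decide +kernel),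
    tau_eq hf (v := sW ++ g1) (w := w67)
      [false] (by decide +kernel)]

theorem gen_fix1 (hf : Faithful) : sig g1 = sJ :=
  (g_taus1 hf).trans ((stab_line1 hf).symm.trans ((s_taus0 hf).symm.trans sig_nil))

theorem g_taus2 (hf : Faithful) : sig g2 = tau w1819 * (tau w336 * (tau w410 * 1)) := by
  rw [sig_eq_taus,
    tau_eq hf (v := sW ++ [1, 1] ++ g2) (w := w1819)
      [false, true, true, false, true, false, true, false, true, true, false, true, true, false, true, false, true, false, true, true, false, true, true, true, false] (by decide +kernel),
    tau_eq hf (v := sW ++ [1] ++ g2) (w := w336)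
      [true, false, true, false, true, true, true, false, true, true, true, false, true, true, false, true, false, true, false, true, true, false, true, true, false] (by decide +kernel),
    tau_eq hf (v := sW ++ g2) (w := w410)
      [true, true, false, true, true, false, true, false, true, true, false, true, true, true, false, true, true, true, false, true, false, true, true, true] (by decide +kernel)]

theorem gen_fix2 (hf : Faithful) : sig g2 = sJ :=
  (g_taus2 hf).trans ((stab_line2 hf).symm.trans ((s_taus0 hf).symm.trans sig_nil))

theorem g_taus3 (hf : Faithful) : sig g3 = tau w87 * (tau w67 * (tau w86 * 1)) := by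
  rw [sig_eq_taus,
    tau_eq hf (v := sW ++ [1, 1] ++ g3) (w := w87)
      [true, true, true, false, true, false, true, false, true, false, true, true, true, false, true, true, true, false, true, true, true, false, true] (by decide +kernel),
    tau_eq hf (v := sW ++ [1] ++ g3) (w := w67)
      [true, false, true, false, true, true, true, false, true, true, false, true, true, true, false, true, false, true, false, true, false] (by decide +kernel),
    tau_eq hf (v := sW ++ g3) (w := w86)
      [false, true, true, false, true, false, true, false, true, false, true, false, true, false, true, true, true, false, true, true, false, true, false] (by decide +kernel)]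

theorem gen_fix3 (hf : Faithful) : sig g3 = sJ :=
  (g_taus3 hf).trans ((stab_line3 hf).symm.trans ((s_taus0 hf).symm.trans sig_nil))

theorem g_taus4 (hf : Faithful) : sig g4 = tau w67 * (tau w87 * (tau w86 * 1)) := by
  rw [sig_eq_taus,
    tau_eq hf (v := sW ++ [1, 1] ++ g4) (w := w67)
      [] (by decide +kernel),
    tau_eq hf (v := sW ++ [1] ++ g4) (w := w87)
      [] (by decide +kernel),
    tau_eq hf (v := sW ++ g4) (w := w86)
      [] (by decide +kernel)]

theorem gen_fix4 (hf : Faithful) : sig g4 = sJ :=
  (g_taus4 hf).trans ((stab_line4 hf).symm.trans ((s_taus0 hf).symm.trans sig_nil))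

theorem g_taus5 (hf : Faithful) : sig g5 = tau w3275 * (tau w337 * (tau w410 * 1)) := by
  rw [sig_eq_taus,
    tau_eq hf (v := sW ++ [1, 1] ++ g5) (w := w3275)
      [true, false, true, false, true, false, true, true, false, true, true, true, false, true, false, true, true, true, false, true, true, true, false, true, true, false, true, false] (by decide +kernel),
    tau_eq hf (v := sW ++ [1] ++ g5) (w := w337)
      [false, true, false, true, false, true, false, true, false, true, true, false, true, true, false, true, false, true, true, false, true, false, true, false, true, true, false, true, false] (by decide +kernel),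
    tau_eq hf (v := sW ++ g5) (w := w410)
      [false, true, true, true, false, true, false, true, false, true, false, true, false, true, false, true, true, true, false, true, false, true, true, false, true, true, false] (by decide +kernel)]

theorem gen_fix5 (hf : Faithful) : sig g5 = sJ :=
  (g_taus5 hf).trans ((stab_line5 hf).symm.trans ((s_taus0 hf).symm.trans sig_nil))

theorem stabGens_fix (hf : Faithful) : ∀ g ∈ stabGens, sig g = sJ := by
  simp only [stabGens, List.forall_mem_cons, List.not_mem_nil, IsEmpty.forall_iff, implies_true,
    and_true]
  exact ⟨gen_fix0 hf, gen_fix1 hf, gen_fix2 hf, gen_fix3 hf, gen_fix4 hf, gen_fix5 hf⟩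

/-- A word. -/
def b1 : List ℕ := [0, 1, 0, 2, 0, 2, 0, 2, 0, 2]

theorem b_taus1 (hf : Faithful) : sig b1 = tau w1344 * (tau w7 * (tau w0 * 1)) := by
  rw [sig_eq_taus,
    tau_eq hf (v := sW ++ [1, 1] ++ b1) (w := w1344)
      [] (by decide +kernel),
    tau_eq hf (v := sW ++ [1] ++ b1) (w := w7)
      [true, false, true, false, true, true, true, false, true, true, false, true, true, true, false, true, false, true, false, true, false] (by decide +kernel),
    tau_eq hf (v := sW ++ b1) (w := w0)
      [] (by decide +kernel)]

/-- A word. -/
def b2 : List ℕ := [0, 1, 0, 1, 0, 1, 0, 2, 0, 2, 0, 2]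

theorem b_taus2 (hf : Faithful) : sig b2 = tau w2044 * (tau w620 * (tau w0 * 1)) := by
  rw [sig_eq_taus,
    tau_eq hf (v := sW ++ [1, 1] ++ b2) (w := w2044)
      [] (by decide +kernel),
    tau_eq hf (v := sW ++ [1] ++ b2) (w := w620)
      [true, false, true, false, true, true, true, false, true, true, false, true, true, true, false, true, false, true, false, true, false] (by decide +kernel),
    tau_eq hf (v := sW ++ b2) (w := w0)
      [false, true, true, false, true, true, false, true, false, true, false, true, false, true, false, true, true, true, false, true, true, false, true, true, true, false, true, false] (by decide +kernel)]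

/-- A word. -/
def b3 : List ℕ := [0, 1, 0, 1, 0, 1, 0, 1, 0, 2, 0, 1, 0, 1, 0, 1, 0]

theorem b_taus3 (hf : Faithful) : sig b3 = tau w2329 * (tau w422 * (tau w0 * 1)) := by
  rw [sig_eq_taus,
    tau_eq hf (v := sW ++ [1, 1] ++ b3) (w := w2329)
      [false, true, false, true, true, false, true, false, true, true, true, false, true, true, false, true, true, false, true, true, false, true, true, false, true] (by decide +kernel),
    tau_eq hf (v := sW ++ [1] ++ b3) (w := w422)
      [false, true, true, false, true, true, false, true, true, true, false, true, true, false, true, false, true, true, false, true, true, false] (by decide +kernel),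
    tau_eq hf (v := sW ++ b3) (w := w0)
      [false, true, true, false, true, true, true, false, true, false, true, true, true, false, true, false, true, false, true, false, true, true, false, true, true, true, false, true] (by decide +kernel)]

theorem base_line (hf : Faithful) : sig b1 * sig b2 = sig b3 := by
  rw [b_taus1 hf, b_taus2 hf, b_taus3 hf]
  simp only [mul_assoc, one_mul]
  exact prod_line hf

end CfsgLib.JankoFour.HBound
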