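import Cfsg.Agent.JankoFour.HSigma

/-!
Generated derivations of identities between products of conjugates of `t` in the presented fourth
Janko group, from the two symmetric relations.
-/

set_option autoImplicit false
set_option maxRecDepth 20000

namespace CfsgLib.JankoFour.HBound

open CfsgLib.JankoFour

local notation "J" => Cfsg.Spor.J4

/-- A word. -/
def w0 : List ℕ := []

/-- A word. -/
def w6 : List ℕ := [1, 0, 2]

/-- A word. -/
def w7 : List ℕ := [2, 0, 1]

/-- A word. -/
def w11 : List ℕ := [2, 0, 1, 0]

/-- A word. -/
def w23 : List ℕ := [1, 0, 2, 0, 1, 0]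

/-- A word. -/
def w67 : List ℕ := [1, 0, 1, 0, 1, 0, 1, 0, 2, 0]

/-- A word. -/
def w86 : List ℕ := [1, 0, 1, 0, 1, 0, 1, 0, 2, 0, 1]

/-- A word. -/
def w87 : List ℕ := [1, 0, 1, 0, 1, 0, 1, 0, 2, 0, 2]

/-- A word. -/
def w158 : List ℕ := [1, 0, 1, 0, 2, 0, 1, 0, 1, 0, 1, 0, 1]

/-- A word. -/
def w161 : List ℕ := [1, 0, 1, 0, 2, 0, 1, 0, 1, 0, 2, 0, 2]

/-- A word. -/
def w250 : List ℕ := [2, 0, 1, 0, 1, 0, 1, 0, 1, 0, 1, 0, 2, 0]

/-- A word. -/
def w319 : List ℕ := [1, 0, 2, 0, 2, 0, 1, 0, 2, 0, 2, 0, 1, 0, 2]

/-- A word. -/
def w336 : List ℕ := [2, 0, 1, 0, 1, 0, 1, 0, 1, 0, 1, 0, 2, 0, 1]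

/-- A word. -/
def w337 : List ℕ := [2, 0, 1, 0, 1, 0, 1, 0, 1, 0, 1, 0, 2, 0, 2]

/-- A word. -/
def w410 : List ℕ := [1, 0, 1, 0, 2, 0, 1, 0, 2, 0, 2, 0, 2, 0, 2, 0]

/-- A word. -/
def w422 : List ℕ := [1, 0, 2, 0, 2, 0, 1, 0, 2, 0, 1, 0, 2, 0, 1, 0]

/-- A word. -/
def w471 : List ℕ := [2, 0, 2, 0, 1, 0, 2, 0, 1, 0, 2, 0, 1, 0, 1, 0]

/-- A word. -/
def w473 : List ℕ := [2, 0, 2, 0, 1, 0, 2, 0, 1, 0, 2, 0, 2, 0, 2, 0]

/-- A word. -/
def w527 : List ℕ := [1, 0, 1, 0, 2, 0, 1, 0, 2, 0, 2, 0, 2, 0, 2, 0, 1]

/-- A word. -/
def w528 : List ℕ := [1, 0, 1, 0, 2, 0, 1, 0, 2, 0, 2, 0, 2, 0, 2, 0, 2]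

/-- A word. -/
def w620 : List ℕ := [2, 0, 2, 0, 1, 0, 1, 0, 2, 0, 1, 0, 2, 0, 2, 0, 2]

/-- A word. -/
def w634 : List ℕ := [2, 0, 2, 0, 1, 0, 2, 0, 1, 0, 1, 0, 2, 0, 1, 0, 2]

/-- A word. -/
def w704 : List ℕ := [1, 0, 2, 0, 1, 0, 2, 0, 2, 0, 1, 0, 2, 0, 1, 0, 2, 0]

/-- A word. -/
def w759 : List ℕ := [2, 0, 1, 0, 1, 0, 2, 0, 2, 0, 1, 0, 1, 0, 2, 0, 2, 0]

/-- A word. -/
def w998 : List ℕ := [2, 0, 1, 0, 1, 0, 2, 0, 2, 0, 1, 0, 1, 0, 2, 0, 1, 0, 1]

/-- A word. -/
def w1054 : List ℕ := [2, 0, 2, 0, 1, 0, 2, 0, 1, 0, 1, 0, 1, 0, 1, 0, 1, 0, 1]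

/-- A word. -/
def w1060 : List ℕ := [2, 0, 2, 0, 1, 0, 2, 0, 1, 0, 1, 0, 2, 0, 1, 0, 1, 0, 1]

/-- A word. -/
def w1176 : List ℕ := [1, 0, 2, 0, 2, 0, 2, 0, 1, 0, 1, 0, 1, 0, 2, 0, 1, 0, 2, 0]

/-- A word. -/
def w1218 : List ℕ := [2, 0, 1, 0, 1, 0, 1, 0, 2, 0, 1, 0, 2, 0, 2, 0, 2, 0, 1, 0]

/-- A word. -/
def w1344 : List ℕ := [1, 0, 1, 0, 1, 0, 1, 0, 2, 0, 2, 0, 1, 0, 2, 0, 2, 0, 2, 0, 2]

/-- A word. -/
def w1819 : List ℕ := [1, 0, 2, 0, 2, 0, 1, 0, 1, 0, 2, 0, 2, 0, 1, 0, 2, 0, 1, 0, 2, 0]

/-- A word. -/
def w2044 : List ℕ := [1, 0, 1, 0, 1, 0, 1, 0, 2, 0, 2, 0, 1, 0, 1, 0, 1, 0, 2, 0, 2, 0, 2]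

/-- A word. -/
def w2221 : List ℕ := [1, 0, 2, 0, 2, 0, 1, 0, 1, 0, 2, 0, 2, 0, 1, 0, 2, 0, 1, 0, 2, 0, 1]

/-- A word. -/
def w2222 : List ℕ := [1, 0, 2, 0, 2, 0, 1, 0, 1, 0, 2, 0, 2, 0, 1, 0, 2, 0, 1, 0, 2, 0, 2]

/-- A word. -/
def w2238 : List ℕ := [1, 0, 2, 0, 2, 0, 2, 0, 1, 0, 1, 0, 1, 0, 2, 0, 1, 0, 2, 0, 1, 0, 2]

/-- A word. -/
def w2329 : List ℕ := [2, 0, 1, 0, 1, 0, 1, 0, 2, 0, 1, 0, 2, 0, 2, 0, 2, 0, 1, 0, 1, 0, 2]

/-- A word. -/
def w3275 : List ℕ := [1, 0, 1, 0, 2, 0, 1, 0, 2, 0, 1, 0, 1, 0, 2, 0, 2, 0, 2, 0, 2, 0, 1, 0, 2, 0]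

/-- A word. -/
def w3358 : List ℕ := [2, 0, 1, 0, 1, 0, 2, 0, 2, 0, 1, 0, 2, 0, 1, 0, 1, 0, 1, 0, 1, 0, 1, 0, 2, 0]

/-- A word. -/
def w3495 : List ℕ := [1, 0, 1, 0, 2, 0, 1, 0, 2, 0, 1, 0, 1, 0, 2, 0, 2, 0, 2, 0, 2, 0, 1, 0, 2, 0, 1]

/-- A word. -/
def w3496 : List ℕ := [1, 0, 1, 0, 2, 0, 1, 0, 2, 0, 1, 0, 1, 0, 2, 0, 2, 0, 2, 0, 2, 0, 1, 0, 2, 0, 2]

/-- A word. -/
def w3661 : List ℕ := [1, 0, 1, 0, 2, 0, 1, 0, 2, 0, 1, 0, 2, 0, 2, 0, 2, 0, 1, 0, 1, 0, 2, 0, 2, 0, 1, 0]

/-- A word. -/
def p0 : List ℕ := [2, 0, 2, 0, 2, 0, 1, 0, 2, 0, 2, 0, 1, 0, 2, 0, 1, 0, 1, 2, 0, 2, 0, 2, 0, 1, 0, 1, 0, 2, 0, 2, 0, 2, 0, 2, 0, 2, 0, 1, 0, 1, 0, 2, 0, 2, 0, 2, 0, 2, 0, 2, 0, 1, 0, 1, 0, 2, 0, 2, 2, 0, 2, 0, 2, 0, 1, 0, 1, 0, 2, 0, 2, 0, 2, 0, 2, 0, 2, 0, 1, 0, 1, 0, 2, 0, 2, 2, 0, 2, 0, 2, 0, 1, 0, 1, 0, 2, 0, 2, 2, 0, 2, 0, 2, 0, 1, 0, 1, 0, 2, 0, 2, 0, 2, 0, 2, 0, 2, 0, 1, 0, 1, 0, 2, 0, 2, 2, 0, 2, 0, 2, 0, 1, 0, 1, 0, 2, 0, 2, 2, 0, 2, 0, 2, 0, 1, 0, 1, 0, 2, 0, 2, 0, 1, 0, 1, 0, 1, 0, 1, 1, 0, 1, 0, 1, 0, 1, 1, 0, 1, 0, 1, 0, 1, 1, 0, 1, 0, 1, 0, 1, 1, 0, 1, 0, 1, 0, 1, 1,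 0, 1, 0, 1, 0, 1, 0, 1, 0, 1, 0, 2, 0, 2, 0, 1, 0, 1, 0, 1, 1, 0, 1, 0, 2, 0, 2, 0, 1, 0, 1, 0, 1, 1, 0, 1, 0, 2, 0, 2, 0, 1, 0, 1, 0, 1, 0, 1, 0, 1, 0, 2, 0, 2, 0, 1, 0, 1, 0, 1, 1, 0, 1, 0, 2, 0, 2, 0, 1, 0, 1, 0, 1, 1, 0, 1, 0, 2, 0, 2, 0, 1, 0, 1, 0, 1, 0, 1, 0, 1, 0, 2, 0, 2, 0, 1, 0, 1, 0, 1, 1, 0, 1, 0, 2, 0, 2, 0, 1, 0, 1, 0, 1, 0, 1, 0, 1, 0, 2, 0, 2, 0, 1, 0, 1, 0, 1, 0, 1, 0, 1, 0, 2, 0, 2, 0, 1, 0, 1, 0, 1, 2, 0, 2, 0, 1, 0, 2, 0, 1, 0, 1, 0, 2, 0, 1, 0, 1, 0, 1]

/-- A word. -/
def p1 : List ℕ := [1, 0, 2, 0, 1, 0, 1, 0, 2, 0, 1, 0, 1, 0, 2, 2, 0, 2, 0, 2, 0, 1, 0, 1, 0, 2, 0, 2, 2, 0, 2, 0, 2, 0, 1, 0, 1, 0, 2, 0, 2, 0, 2, 0, 2, 0, 2, 0, 1, 0, 1, 0, 2, 0, 2, 2, 0, 2, 0, 2, 0, 1, 0, 1, 0, 2, 0, 2, 0, 2, 0, 2, 0, 2, 0, 1, 0, 1, 0, 2, 0, 2, 2, 0, 2, 0, 2, 0, 1, 0, 1, 0, 2, 0, 2, 0, 2, 0, 2, 0, 2, 0, 1, 0, 1, 0, 2, 0, 2, 2, 0, 2, 0, 2, 0, 1, 0, 1, 0, 2, 0, 2, 0, 1, 0, 1, 0, 1, 0, 1, 1, 0, 1, 0, 1, 0, 1, 1, 0, 1, 0, 1, 0, 1, 1, 0, 1, 0, 1, 0, 1, 1, 0, 1, 0, 1, 0, 1, 1, 0, 1, 0, 1, 0, 1, 0, 1, 0, 1, 0, 2, 0, 2, 0, 1, 0, 1, 0, 1, 1, 0, 1, 0, 2, 0, 2, 0, 1, 0, 1,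 0, 1, 0, 1, 0, 1, 0, 2, 0, 2, 0, 1, 0, 1, 0, 1, 1, 0, 1, 0, 2, 0, 2, 0, 1, 0, 1, 0, 1, 0, 1, 0, 1, 0, 2, 0, 2, 0, 1, 0, 1, 0, 1, 1, 0, 1, 0, 2, 0, 2, 0, 1, 0, 1, 0, 1, 0, 1, 0, 1, 0, 2, 0, 2, 0, 1, 0, 1, 0, 1, 1, 0, 1, 0, 2, 0, 2, 0, 1, 0, 1, 0, 1, 1, 0, 2, 0, 2, 0, 1, 0, 2, 0, 2, 0, 1, 0, 2]

/-- A word. -/
def p2 : List ℕ := [1, 0, 2, 0, 1, 0, 1, 0, 2, 0, 1, 0, 1, 0, 2, 2, 0, 2, 0, 2, 0, 1, 0, 1, 0, 2, 0, 2, 0, 2, 0, 2, 0, 2, 0, 1, 0, 1, 0, 2, 0, 2, 0, 2, 0, 2, 0, 2, 0, 1, 0, 1, 0, 2, 0, 2, 0, 2, 0, 2, 0, 2, 0, 1, 0, 1, 0, 2, 0, 2, 0, 2, 0, 2, 0, 2, 0, 1, 0, 1, 0, 2, 0, 2, 0, 2, 0, 2, 0, 2, 0, 1, 0, 1, 0, 2, 0, 2, 0, 2, 0, 2, 0, 2, 0, 1, 0, 1, 0, 2, 0, 2, 0, 2, 0, 2, 0, 2, 0, 1, 0, 1, 0, 2, 0, 2, 2, 0, 2, 0, 2, 0, 1, 0, 1, 0, 2, 0, 2, 0, 2, 0, 2, 0, 2, 0, 1, 0, 1, 0, 2, 0, 2, 1, 0, 1, 0, 1, 0, 1, 1, 0, 1, 0, 1, 0, 1, 1, 0, 1, 0, 1, 0, 1, 1, 0, 1, 0, 1, 0, 1, 1, 0, 1, 0, 1, 0, 1, 1, 0, 1, 0, 1, 0, 1, 1, 0, 1, 0, 2, 0, 2, 0, 1, 0, 1, 0, 1, 0, 1, 0, 1, 0, 2, 0, 2, 0, 1, 0, 1, 0, 1, 1, 0, 1, 0, 2, 0, 2, 0, 1, 0, 1, 0, 1, 0, 1, 0, 1, 0, 2, 0, 2, 0, 1, 0, 1, 0, 1, 0, 1, 0,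 1, 0, 2, 0, 2, 0, 1, 0, 1, 0, 1, 0, 1, 0, 1, 0, 2, 0, 2, 0, 1, 0, 1, 0, 1, 0, 1, 0, 1, 0, 2, 0, 2, 0, 1, 0, 1, 0, 1, 0, 1, 0, 1, 0, 2, 0, 2, 0, 1, 0, 1, 0, 1, 0, 1, 0, 1, 0, 2, 0, 2, 0, 1, 0, 1, 0, 1, 0, 1, 0, 1, 0, 2, 0, 2, 0, 1, 0, 1, 0, 1, 1, 0, 2, 0, 2, 0, 1, 0, 2, 0, 2, 0, 1, 0, 2]

theorem hPok : samePerm pW (expT [false, true, true, false, true, true, false, true, false, true, false, true, false, true, false, true, true, true, false, true, true, false, true, true, true, false, true, false, true]) = true := by decide +kernel

theorem swap_conj {G : Type*} [Group G] {a b e p : G} (ha : a * a = 1) (h : a * b = e * p * a) :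
    b * a = a * e * p := by
  calc b * a = a * a * b * a := by rw [ha, one_mul]
    _ = a * (e * p * a) * a := by rw [← h]; group
    _ = a * e * p * (a * a) := by group
    _ = a * e * p := by rw [ha, mul_one]

theorem m_319_11 (hf : Faithful) : tau w319 * tau w11 = tau w1344 :=
  line_mul hf [0, 1, 0, 2, 0, 1, 0, 2, 0, 2, 0, 2, 0, 2, 0, 2, 0, 2, 0, 2, 0, 1, 0, 2, 0, 2, 0, 2] 2 1 0
    [true, true, false, true, true, false, true, true, false, true, true, true, false, true, false, true, true, true, false, true, true, false]
    [false, true, false, true, true, false, true, true, false, true, true, false, true, false, true, true, false, true, false, true, true, true, false, true, true, false, true, false]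
    [true, false, true, false, true, true, false, true, true, true, false, true, true, false, true, true, false, true, false, true, true, false] (by decide +kernel)

theorem m_1060_634 (hf : Faithful) : tau w1060 * tau w634 = tau w11 :=
  line_mul hf [0, 1, 0, 2, 0, 1, 0, 2, 0, 1, 0, 1, 0, 1, 0, 2, 0, 1, 0, 2, 0, 2, 0, 2, 0, 2, 0, 1, 0] 0 1 2
    [false, true, true, false, true, false, true, true, true, false, true, true, true, false, true, false, true, true, false, true, false, true, true, true]
    [true, false, true, true, true, false, true, true, false, true, false, true, false, true, false, true, true, false, true, true, false, true, true, false]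
    [true, true, false, true, true, false, true, false, true, false, true, false, true, false, true, true, true, false, true, true, false, true, true, true, false, true] (by decide +kernel)

theorem m_634_7 (hf : Faithful) : tau w634 * tau w7 = tau w998 :=
  line_mul hf [0, 1, 0, 2, 0, 1, 0, 2, 0, 1, 0, 1, 0, 1, 0, 2, 0, 1, 0, 2, 0, 2, 0, 2, 0, 2, 0, 1] 1 2 0
    [true, true, false, true, true, true, false, true, false, true, true, false, true, true, true, false, true, true, false, true, true, true, false, true, false, true, false]
    [true, true, false, true, true, false, true, false, true, false, true, false, true, false, true, true, true, false, true, true, false, true, true, true, false, true]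
    [false, true, true, false, true, false, true, true, false, true, false, true, true, false, true, true, true, false, true, true, false, true, false, true, false] (by decide +kernel)

theorem m_998_0 (hf : Faithful) : tau w998 * tau w0 = tau w759 :=
  line_mul hf [0, 1, 0, 2, 0, 1, 0, 2, 0, 1, 0, 1, 0, 1, 0, 2, 0, 1, 0, 2, 0, 2, 0, 2] 1 2 0
    [true, false, true, true, true, false, true, true, false, true, false, true, false, true, false, true, true, false, true, true, false, true, true, false]
    [false, true, true, false, true, true, false, true, false, true, false, true, false, true, false, true, true, true, false, true, true, false, true, true, true, false, true]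
    [false, true, true, false, true, false, true, true, false, true, false, true, true, false, true, true, true, false, true, true, false, true, false, true, false] (by decide +kernel)

theorem m_410_67 (hf : Faithful) : tau w410 * tau w67 = tau w3496 :=
  line_mul hf [0, 1, 0, 2, 0, 1, 0, 2, 0, 1, 0, 2, 0, 1, 0, 1, 0, 2, 0, 2, 0, 2, 0, 1, 0, 2, 0, 2, 0, 2, 0] 1 2 0
    [true, false, true, true, true, false, true, false, true, true, false, true, true, true, false, true, true, false, true, true, false, true, false]
    [false, true, true, true, false, true, false, true, false, true, false, true, false, true, false, true, true, true, false, true, false, true, true, false, true, true, true, false]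
    [false, true, true, false, true, true, true, false, true, true, false, true, true, false, true, false, true, false, true, true, false, true, false] (by decide +kernel)

theorem m_86_527 (hf : Faithful) : tau w86 * tau w527 = tau w3275 :=
  line_mul hf [0, 1, 0, 1, 0, 1, 0, 2, 0, 1, 0, 2, 0, 1, 0, 1, 0, 2, 0, 1, 0, 2, 0, 1, 0, 1, 0, 1, 0, 1, 0] 2 0 1
    [true, true, false, true, false, true, false, true, false, true, false, true, true, false, true, true, false, true, false, true, false, true, false, true, false]
    [false, true, true, false, true, false, true, false, true, false, true, false, true, false, true, false, true, true, false, true, false, true, false]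
    [false, true, true, true, false, true, false, true, false, true, false, true, false, true, false, true, true, false, true, true, true, false, true, true, false, true, true, true] (by decide +kernel)

theorem m_410_86 (hf : Faithful) : tau w410 * tau w86 = tau w2221 :=
  line_mul hf [0, 1, 0, 2, 0, 1, 0, 2, 0, 1, 0, 1, 0, 1, 0, 2, 0, 2, 0, 2, 0, 1] 1 2 0
    [false, true, true, false, true, true, true, false, true, true, false, true, true, true, false, true, true, true, false, true, true, false, true, true, true, false]
    [false, true, true, false, true, true, false, true, false, true, false, true, false, true, false, true, true, true, false, true, true, false, true, true, true, false, true]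
    [true, true, false, true, false, true, true, false, true, false, true, true, false, true, true, true, false, true, true, false, true, false, true, false] (by decide +kernel)

theorem m_67_527 (hf : Faithful) : tau w67 * tau w527 = tau w336 :=
  line_mul hf [0, 1, 0, 1, 0, 1, 0, 2, 0, 1, 0, 2, 0, 2, 0, 2, 0, 1, 0, 1, 0, 1, 0, 1, 0, 2] 2 0 1
    [false, true, false, true, true, false, true, true, false, true, true, false, true, false, true, false, true, true, false, true, true, true]
    [true, true, true, false, true, true, true, false, true, false, true, false, true, false, true, true, true, false, true, true, false]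
    [true, false, true, false, true, false, true, false, true, true, true, false, true, true, false, true, true, false, true, true, false, true, false, true, true] (by decide +kernel)

theorem m_3496_3275 (hf : Faithful) : tau w3496 * tau w3275 = tau w3495 :=
  line_mul hf [0, 1, 0, 1, 0, 1, 0, 1, 0, 2, 0, 1, 0, 1, 0, 2, 0, 1, 0, 1, 0, 1, 0, 1, 0, 1, 0, 2, 0, 2, 0, 2, 0, 2, 0, 2, 0, 2, 0] 2 1 0
    [false, true, false, true, false, true, true, false, true, true, false, true, false, true, false, true, true, false, true, true, true, false, true, true, true, false]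
    [true, false, true, true, false, true, true, false, true, true, true, false, true, false, true, true, false]
    [false, true, false, true, true, false, true, false, true, true, false, true, false, true, false, true, true, false, true, true, false, true, false] (by decide +kernel)

theorem m_2221_336 (hf : Faithful) : tau w2221 * tau w336 = tau w3495 :=
  line_mul hf [0, 1, 0, 1, 0, 1, 0, 1, 0, 1, 0, 2, 0, 2, 0, 1, 0, 2, 0, 1, 0] 0 2 1
    [false, true, false, true, false, true, false, true, false, true, true, false, true, true, true, false, true, false, true, true, false, true, false, true, false, true, false, true, true]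
    [true, false, true, false, true, false, true, false, true, true, true, false, true, true, true, false, true, false, true, true, true, false, true, false, true, false]
    [true, true, false, true, false, true, true, true, false, true, true, true, false, true, false, true, true, false, true, true, true, false, true] (by decide +kernel)

theorem kbase (hf : Faithful) : tau w67 * tau w86 = tau w86 * tau w67 :=
  grid (m_410_67 hf) (m_86_527 hf)
    (m_410_86 hf) (m_67_527 hf) (m_3496_3275 hf) (m_2221_336 hf)

theorem k_620_0 (hf : Faithful) : tau w620 * tau w0 = tau w0 * tau w620 :=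
  tau_comm_conj hf (kbase hf) [2, 0, 1, 0, 1, 0, 1, 0, 2, 0, 1, 0, 1, 0, 1, 0, 2, 0, 2, 0, 1, 0, 2]
    [false, true, false, true, false, true, true, true, false, true, false, true, false, true, true, false, true, true, false, true, true, false, true, true, true, false, true, false]
    [true, false, true, true, false, true, false, true, false, true, false, true, false, true, true, true, false, true, true, false, true, true, true, false, true, false, true] (by decide +kernel)

theorem k_2044_0 (hf : Faithful) : tau w2044 * tau w0 = tau w0 * tau w2044 :=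
  tau_comm_conj hf (kbase hf) [2, 0, 1, 0, 1, 0, 1, 0, 2, 0, 2, 0, 2]
    []
    [false, true, true, false, true, true, false, true, false, true, false, true, false, true, false, true, true, true, false, true, true, false, true, true, true, false, true, false] (by decide +kernel)

theorem m_704_471 (hf : Faithful) : tau w704 * tau w471 = tau w0 :=
  line_mul hf [0, 1, 0, 2, 0, 1, 0, 2, 0] 0 1 2
    []
    [false, true, true, false, true, false, true, false, true, false, true, false, true, false, true, true, true, false, true, true, false, true, false]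
    [false] (by decide +kernel)

theorem m_471_2044 (hf : Faithful) : tau w471 * tau w2044 = tau w3358 :=
  line_mul hf [0, 1, 0, 1, 0, 1, 0, 1, 0, 2, 0, 2, 0, 1, 0, 2, 0, 1, 0, 2, 0, 2, 0, 1, 0, 1, 0, 1, 0, 2] 0 1 2
    [true, true, true, false, true, false, true, true, true, false, true, false, true, false, true, true, false, true]
    [true, false, true, true, true, false, true, false, true, false, true, false, true, false, true, false, true, false, true, true, false, true, false, true, true]
    [false, true, false, true, false, true, true, true, false, true, true, true, false, true, true, true, false, true] (by decide +kernel)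

theorem m_158_3661 (hf : Faithful) : tau w158 * tau w3661 = tau w3358 :=
  line_mul hf [0, 1, 0, 2, 0, 1, 0, 2, 0, 1, 0, 1, 0, 2, 0, 1, 0, 1, 0, 1, 0, 1] 2 1 0
    [false]
    [true, true, true, false, true, true, true, false, true, false, true, true, false, true, false, true, false, true, false, true, false, true]
    [true, false, true, true, false, true, true, true, false, true, false, true, true, true, false, true, true, true, false, true, true, true] (by decide +kernel)

theorem m_3661_620 (hf : Faithful) : tau w3661 * tau w620 = tau w161 :=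
  line_mul hf [0, 1, 0, 1, 0, 1, 0, 1, 0, 2, 0, 2, 0, 2, 0, 2, 0, 1, 0, 1, 0, 1, 0, 2, 0, 1, 0, 1] 2 1 0
    [false, true, false, true, true, false, true, false, true, true, true, false, true, true, true, false, true, true, false, true, false, true, false, true]
    [true, false, true, true, true, false, true, false, true, false, true, false, true, false, true, false, true, false, true, true, false, true, false, true, true]
    [false, true, true, true, false, true, true, false, true, false, true, true, true, false, true, false, true, true, false, true, true, false, true, false, true, true] (by decide +kernel)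

theorem m_759_704 (hf : Faithful) : tau w759 * tau w704 = tau w1218 :=
  line_mul hf [0, 1, 0, 1, 0, 1, 0, 2, 0, 1, 0, 1, 0, 1, 0, 1, 0, 1, 0, 1, 0, 2, 0, 2] 2 1 0
    [true, true, true, false, true, false, true, true, false]
    [true, false, true, false, true, true, false, true, false, true, true, false, true, true, false, true, true, false, true, false, true, true, false, true, false, true]
    [true, true, false, true, false, true, true, true, false, true, true, true, false, true, true, false, true, false, true, false, true, true, true, false, true, true] (by decide +kernel)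

theorem j_1060_1218 (hf : Faithful) : tau w1060 * tau w1218 = tau w23 * wv p0 * tau w1060 :=
  conj_mul hf [false, true, true, false, true, true, false, true, false, true, false, true, false, true, false, true, true, true, false, true, true, false, true, true, true, false, true, false, true] [0, 1, 0, 1, 0, 2, 0, 2, 0, 1, 0, 1, 0, 1, 1, 0, 1, 0, 2, 0, 2, 0, 1, 0, 1, 0, 1, 1, 0, 1, 0, 2, 0, 2, 0, 1, 0, 1, 0, 1, 0, 1, 0, 1, 0, 2, 0, 2, 0, 1, 0, 1, 0, 1, 1, 0, 1, 0, 2, 0, 2, 0, 1, 0, 1, 0, 1, 1, 0, 1, 0, 2, 0, 2, 0, 1, 0, 1, 0, 1, 0, 1, 0, 1, 0, 2, 0, 2, 0, 1, 0, 1, 0, 1, 1, 0, 1, 0, 2, 0, 2, 0, 1, 0, 1, 0, 1, 0, 1, 0, 1, 0, 2, 0, 2, 0, 1, 0, 1, 0, 1, 0, 1, 0, 1, 0, 2, 0, 2, 0, 1, 0, 1, 0, 1, 2, 0, 2, 0, 1, 0, 2, 0, 1, 0, 1, 0, 2, 0, 1, 0, 1, 0, 1]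
    [true, true, true, false, true, true, true, false, true, true, false, true, false, true, false]
    [true, true, true, false, true, false, true, true, false, true, true, false, true, true, true, false, true, true, true]
    [false, true, false, true, true, false, true, false, true, true, true, false, true, true, true, false, true, false, true, false, true, false, true, true, false, true, false, true] (by decide +kernel)

theorem m_1060_158 (hf : Faithful) : tau w1060 * tau w158 = tau w2238 :=
  line_mul hf [0, 1, 0, 2, 0, 1, 0, 1, 0, 2, 0, 2, 0, 2, 0, 1, 0, 1, 0, 1] 1 2 0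
    [false, true, true, false, true, false, true, false, true, false, true, false, true, false, true, true, true, false, true, true, false, true, false]
    [true]
    [true, false, true, true, false, true, true, false, true, false, true, true, true, false, true, false, true, true, true, false, true, false, true] (by decide +kernel)

theorem j_319_23 (hf : Faithful) : tau w319 * tau w23 = tau w1218 * wv p1 * tau w319 :=
  conj_mul hf [false, true, true, false, true, true, false, true, false, true, false, true, false, true, false, true, true, true, false, true, true, false, true, true, true, false, true, false, true] [0, 1, 0, 1, 0, 2, 0, 2, 0, 1, 0, 1, 0, 1, 1, 0, 1, 0, 2, 0, 2, 0, 1, 0, 1, 0, 1, 0, 1, 0, 1, 0, 2, 0, 2, 0, 1, 0, 1, 0, 1, 1, 0, 1, 0, 2, 0, 2, 0, 1, 0, 1, 0, 1, 0, 1, 0, 1, 0, 2, 0, 2, 0, 1, 0, 1, 0, 1, 1, 0, 1, 0, 2, 0, 2, 0, 1, 0, 1, 0, 1, 0, 1, 0, 1, 0, 2, 0, 2, 0, 1, 0, 1, 0, 1, 1, 0, 1, 0, 2, 0, 2, 0, 1, 0, 1, 0, 1, 1, 0, 2, 0, 2, 0, 1, 0, 2, 0, 2, 0, 1, 0, 2]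
    [true, true, false, true, true, false, true, true, false, true, true, false]
    [false, true, false, true, true, false, true, true, false, true, false, true, true, true, false, true, true, false, true, false, true, false, true, true, true]
    [false, true, false, true, true, false, true, false, true, false, true, false, true, false, true, true, false, true, true, false, true, false, true, false, true, false, true, true, true] (by decide +kernel)

theorem j_319_2238 (hf : Faithful) : tau w319 * tau w2238 = tau w1054 * wv p2 * tau w319 :=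
  conj_mul hf [false, true, true, false, true, true, false, true, false, true, false, true, false, true, false, true, true, true, false, true, true, false, true, true, true, false, true, false, true] [1, 0, 1, 0, 2, 0, 2, 0, 1, 0, 1, 0, 1, 0, 1, 0, 1, 0, 2, 0, 2, 0, 1, 0, 1, 0, 1, 1, 0, 1, 0, 2, 0, 2, 0, 1, 0, 1, 0, 1, 0, 1, 0, 1, 0, 2, 0, 2, 0, 1, 0, 1, 0, 1, 0, 1, 0, 1, 0, 2, 0, 2, 0, 1, 0, 1, 0, 1, 0, 1, 0, 1, 0, 2, 0, 2, 0, 1, 0, 1, 0, 1, 0, 1, 0, 1, 0, 2, 0, 2, 0, 1, 0, 1, 0, 1, 0, 1, 0, 1, 0, 2, 0, 2, 0, 1, 0, 1, 0, 1, 0, 1, 0, 1, 0, 2, 0, 2, 0, 1, 0, 1, 0, 1, 0, 1, 0, 1, 0, 2, 0, 2, 0, 1, 0, 1, 0, 1, 1, 0, 2, 0, 2, 0, 1, 0, 2, 0, 2, 0, 1, 0, 2]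
    [true, true, false, true, true, true, false, true, true, false, true, true, false, true, true, true, false, true, true, false, true, true, false, true]
    [true, false, true, true, true, false, true, false, true, false, true, false, true, false, true, false, true, true, true, false, true, true, true]
    [true, false, true, false, true, true, false, true, false, true, false, true, false, true, true, false, true, true, false, true, false, true, true, false] (by decide +kernel)

theorem m_319_161 (hf : Faithful) : tau w319 * tau w161 = tau w473 :=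
  line_mul hf [0, 1, 0, 1, 0, 1, 0, 2, 0, 2, 0, 2, 0, 2, 0, 2, 0, 1, 0, 2, 0, 1, 0, 1, 0, 2, 0, 1, 0] 2 1 0
    [true, false, true, true, false, true, true, false, true, true, true, false, true, true, false, true, false, true, false, true, false, true, false, true, true, false, true, true]
    [true, true, false, true, true, false, true, true, true, false, true, true, false, true, true, false, true, true, true, false]
    [false, true, false, true, false, true, true, true, false, true, false, true, true, true, false, true, true, true] (by decide +kernel)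

theorem k_422_0 (hf : Faithful) : tau w422 * tau w0 = tau w0 * tau w422 :=
  tau_comm_conj hf (kbase hf) [0, 1, 0, 2, 0, 2, 0, 1, 0, 1, 0, 1, 0, 2, 0, 1, 0, 1, 0, 2, 0, 1, 0, 2, 0, 1, 0]
    [true, true, true, false, true]
    [false, true, false, true, false, true, false, true, true, false, true, true, false, true, false, true, true, true, false] (by decide +kernel)

theorem k_2329_0 (hf : Faithful) : tau w2329 * tau w0 = tau w0 * tau w2329 :=
  tau_comm_conj hf (kbase hf) [2, 0, 1, 0, 1, 0, 1, 0, 1, 0, 2, 0, 1, 0, 1, 0, 1, 0]
    [false, true, true, false, true, true, true, false, true, false, true, false, true, true, true, false, true, false, true, true, false, true, true]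
    [true, true, true, false, true, false, true, false, true, false, true, false, true, false, true, true, true, false, true, false, true, true, false, true, true, false] (by decide +kernel)

theorem m_1218_23 (hf : Faithful) : tau w1218 * tau w23 = tau w0 :=
  line_mul hf [0, 1, 0, 2, 0, 1, 0, 2, 0, 2, 0, 2, 0, 2, 0, 1, 0, 1, 0, 1, 0, 1, 0, 1, 0, 2] 0 2 1
    [false, true, false, true, true, true, false, true, false, true, false, true, false, true, true, false, true, true, true, false, true, true, false, true, true, false, true, true, false]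
    [true, true, true, false, true, true, false]
    [true, true, false, true, false, true, true, false, true, true, true, false, true, false, true, true, false, true, true, false] (by decide +kernel)

theorem m_23_2329 (hf : Faithful) : tau w23 * tau w2329 = tau w6 :=
  line_mul hf [0, 1, 0, 2, 0, 1, 0, 2, 0, 2, 0, 2, 0, 2, 0, 1, 0, 1, 0, 1, 0, 1, 0] 2 0 1
    [true, false]
    [false, true, false, true, true, true, false, true, false, true, false, true, false, true, true, false, true, true, true, false, true, true, false, true, true, false, true, true, false]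
    [true, true, false, true, false, true, true, false, true, true, true, false, true, false, true, true, false, true, true, false] (by decide +kernel)

theorem m_1054_1176 (hf : Faithful) : tau w1054 * tau w1176 = tau w6 :=
  line_mul hf [0, 1, 0, 2, 0, 1, 0, 2, 0, 1, 0, 1, 0, 2, 0, 2, 0, 1, 0, 1, 0, 1, 0, 1, 0, 2] 0 1 2
    [false, true, true, false, true, true, false, true, true, true, false, true, true, true, false, true, false, true, true, false, true, false, true, false]
    [false, true, true, true, false, true, true, false, true, false, true, true, true, false, true, false, true, true, false, true, true, false]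
    [false, true, true, true, false] (by decide +kernel)

theorem m_1176_422 (hf : Faithful) : tau w1176 * tau w422 = tau w473 :=
  line_mul hf [0, 1, 0, 1, 0, 1, 0, 2, 0, 2, 0, 1, 0, 2, 0, 1, 0, 1, 0, 2, 0, 1, 0, 1, 0, 1, 0, 2, 0, 2, 0, 1, 0] 1 2 0
    [false, true, true, true, false, true, true, false, true, true, false, true, true, true, false, true, false, true, true, false, true, true]
    [true, true, false, true, true, false, true, true, false, true, true, true, false, true, true, true, false]
    [true, false, true, false, true, false, true, true, true, false, true, true, false, true, false, true, true, true, false, true, false, true, false, true] (by decide +kernel)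

theorem prod_line (hf : Faithful) : (tau w1344 * (tau w7 * (tau w0 * (tau w2044 * (tau w620 * (tau w0 * 1)))))) = (tau w2329 * (tau w422 * (tau w0 * 1))) :=
  calc (tau w1344 * (tau w7 * (tau w0 * (tau w2044 * (tau w620 * (tau w0 * 1))))))
    _ = (tau w319 * (tau w11 * (tau w7 * (tau w0 * (tau w2044 * (tau w620 * (tau w0 * 1))))))) := (re2 (m_319_11 hf) _).symm
    _ = (tau w319 * (tau w1060 * (tau w634 * (tau w7 * (tau w0 * (tau w2044 * (tau w620 * (tau w0 * 1)))))))) := congrArg (fun r => tau w319 * r) ((re2 (m_1060_634 hf) _).symm)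
    _ = (tau w319 * (tau w1060 * (tau w998 * (tau w0 * (tau w2044 * (tau w620 * (tau w0 * 1))))))) := congrArg (fun r => tau w319 * r) (congrArg (fun r => tau w1060 * r) (re2 (m_634_7 hf) _))
    _ = (tau w319 * (tau w1060 * (tau w759 * (tau w2044 * (tau w620 * (tau w0 * 1)))))) := congrArg (fun r => tau w319 * r) (congrArg (fun r => tau w1060 * r) (re2 (m_998_0 hf) _))
    _ = (tau w319 * (tau w1060 * (tau w759 * (tau w2044 * (tau w0 * (tau w620 * 1)))))) := congrArg (fun r => tau w319 * r) (congrArg (fun r => tau w1060 * r) (congrArg (fun r => tau w759 * r) (congrArg (fun r => tau w2044 * r) (re22 (k_620_0 hf) _))))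
    _ = (tau w319 * (tau w1060 * (tau w759 * (tau w0 * (tau w2044 * (tau w620 * 1)))))) := congrArg (fun r => tau w319 * r) (congrArg (fun r => tau w1060 * r) (congrArg (fun r => tau w759 * r) (re22 (k_2044_0 hf) _)))
    _ = (tau w319 * (tau w1060 * (tau w759 * (tau w704 * (tau w471 * (tau w2044 * (tau w620 * 1))))))) := congrArg (fun r => tau w319 * r) (congrArg (fun r => tau w1060 * r) (congrArg (fun r => tau w759 * r) ((re2 (m_704_471 hf) _).symm)))
    _ = (tau w319 * (tau w1060 * (tau w759 * (tau w704 * (tau w3358 * (tau w620 * 1)))))) := congrArg (fun r => tau w319 * r) (congrArg (fun r => tau w1060 * r) (congrArg (fun r => tau w759 * r) (congrArg (fun r => tau w704 * r) (re2 (m_471_2044 hf) _))))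
    _ = (tau w319 * (tau w1060 * (tau w759 * (tau w704 * (tau w158 * (tau w3661 * (tau w620 * 1))))))) := congrArg (fun r => tau w319 * r) (congrArg (fun r => tau w1060 * r) (congrArg (fun r => tau w759 * r) (congrArg (fun r => tau w704 * r) ((re2 (m_158_3661 hf) _).symm))))
    _ = (tau w319 * (tau w1060 * (tau w759 * (tau w704 * (tau w158 * (tau w161 * 1)))))) := congrArg (fun r => tau w319 * r) (congrArg (fun r => tau w1060 * r) (congrArg (fun r => tau w759 * r) (congrArg (fun r => tau w704 * r) (congrArg (fun r => tau w158 * r) (re2 (m_3661_620 hf) _)))))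
    _ = (tau w319 * (tau w1060 * (tau w1218 * (tau w158 * (tau w161 * 1))))) := congrArg (fun r => tau w319 * r) (congrArg (fun r => tau w1060 * r) (re2 (m_759_704 hf) _))
    _ = (tau w319 * (tau w23 * (wv p0 * (tau w1060 * (tau w158 * (tau w161 * 1)))))) := congrArg (fun r => tau w319 * r) (re23 (j_1060_1218 hf) _)
    _ = (tau w319 * (tau w23 * (tau w1060 * (wv p0 * (tau w158 * (tau w161 * 1)))))) := congrArg (fun r => tau w319 * r) (congrArg (fun r => tau w23 * r) (push hf [false, true, false, true, true, false, true, false, true, true, true, false, true, false, true, true, true, false, true, true] (show samePerm (w1060 ++ winv p0) (expT [false, true, false, true, true, false, true, false, true, true, true, false, true, false, true, true, true, false, true, true] ++ w1060) = true by decide +kernel) _))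
    _ = (tau w319 * (tau w23 * (tau w1060 * (tau w158 * (wv p0 * (tau w161 * 1)))))) := congrArg (fun r => tau w319 * r) (congrArg (fun r => tau w23 * r) (congrArg (fun r => tau w1060 * r) (push hf [true, false, true, false, true, true, false, true, false, true, true, true, false, true, false, true, true, true, false, true] (show samePerm (w158 ++ winv p0) (expT [true, false, true, false, true, true, false, true, false, true, true, true, false, true, false, true, true, true, false, true] ++ w158) = true by decide +kernel) _)))
    _ = (tau w319 * (tau w23 * (tau w1060 * (tau w158 * (tau w161 * (wv p0 * 1)))))) := congrArg (fun r => tau w319 * r) (congrArg (fun r => tau w23 * r) (congrArg (fun r => tau w1060 * r) (congrArg (fun r => tau w158 * r) (push hf [true, false, true, false, true, false, true, true, true, false, true, false, true, false, true, true, true, false, true, false, true, false, true, true] (show samePerm (w161 ++ winv p0) (expT [true, false, true, false, true, false, true, true, true, false, true, false, true, false, true, true, true, false, true, false,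 true, false, true, true] ++ w161) = true by decide +kernel) _))))
    _ = (tau w319 * (tau w23 * (tau w2238 * (tau w161 * (wv p0 * 1))))) := congrArg (fun r => tau w319 * r) (congrArg (fun r => tau w23 * r) (re2 (m_1060_158 hf) _))
    _ = (tau w1218 * (wv p1 * (tau w319 * (tau w2238 * (tau w161 * (wv p0 * 1)))))) := re23 (j_319_23 hf) _
    _ = (tau w1218 * (tau w319 * (wv p1 * (tau w2238 * (tau w161 * (wv p0 * 1)))))) := congrArg (fun r => tau w1218 * r) (push hf [false, true, true, false, true, true, false, true, true, false] (show samePerm (w319 ++ winv p1) (expT [false, true, true, false, true, true, false, true, true, false] ++ w319) = true by decide +kernel) _)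
    _ = (tau w1218 * (tau w319 * (tau w2238 * (wv p1 * (tau w161 * (wv p0 * 1)))))) := congrArg (fun r => tau w1218 * r) (congrArg (fun r => tau w319 * r) (push hf [false, true, true, true, false, true, false, true, true, false, true, false, true, false, true, true, false, true, false, true, true, true, false, true, true, true] (show samePerm (w2238 ++ winv p1) (expT [false, true, true, true, false, true, false, true, true, false, true, false, true, false, true, true, false, true, false, true, true, true, false, true, true, true] ++ w2238) = true by decide +kernel) _))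
    _ = (tau w1218 * (tau w319 * (tau w2238 * (tau w161 * (wv p1 * (wv p0 * 1)))))) := congrArg (fun r => tau w1218 * r) (congrArg (fun r => tau w319 * r) (congrArg (fun r => tau w2238 * r) (push hf [true, true, true, false, true, false, true, true, true, false, true, true, true, false, true, true, false, true, false, true, false, true, true, true, false, true] (show samePerm (w161 ++ winv p1) (expT [true, true, true, false, true, false, true, true, true, false, true, true, true, false, true, true, false, true, false, true, false, true, true, true, false, true] ++ w161) = true by decide +kernel) _)))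
    _ = (tau w1218 * (tau w1054 * (wv p2 * (tau w319 * (tau w161 * (wv p1 * (wv p0 * 1))))))) := congrArg (fun r => tau w1218 * r) (re23 (j_319_2238 hf) _)
    _ = (tau w1218 * (tau w1054 * (tau w319 * (wv p2 * (tau w161 * (wv p1 * (wv p0 * 1))))))) := congrArg (fun r => tau w1218 * r) (congrArg (fun r => tau w1054 * r) (push hf [false, true, false, true, true, false, true, true, false, true, true, false, true, false, true, true, false, true, true, false, true, true, true, false, true, true, false, true] (show samePerm (w319 ++ winv p2) (expT [false, true, false, true, true, false, true, true, false, true, true, false, true, false, true, true, false, true, true, false, true, true, true, false, true, true, false, true] ++ w319) = true by decide +kernel) _))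
    _ = (tau w1218 * (tau w1054 * (tau w319 * (tau w161 * (wv p2 * (wv p1 * (wv p0 * 1))))))) := congrArg (fun r => tau w1218 * r) (congrArg (fun r => tau w1054 * r) (congrArg (fun r => tau w319 * r) (push hf [true, true, true, false, true, false, true, true, false, true, true, true, false, true, true, false, true, false, true, true, true, false, true, false, true, true, false, true] (show samePerm (w161 ++ winv p2) (expT [true, true, true, false, true, false, true, true, false, true, true, true, false, true, true, false, true, false, true, true, true, false, true, false, true, true, false, true] ++ w161) = true by decide +kernel) _)))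
    _ = (tau w1218 * (tau w1054 * (tau w473 * (wv p2 * (wv p1 * (wv p0 * 1)))))) := congrArg (fun r => tau w1218 * r) (congrArg (fun r => tau w1054 * r) (re2 (m_319_161 hf) _))
    _ = (tau w1218 * (tau w1054 * (tau w473 * 1))) := congrArg (fun r => tau w1218 * r) (congrArg (fun r => tau w1054 * r) (congrArg (fun r => tau w473 * r) ((by rw [mul_one, ← wv_append, ← wv_append]; exact (hf _ [] (by decide +kernel)).trans wv_nil))))
    _ = (tau w1218 * (tau w1054 * (tau w1176 * (tau w422 * 1)))) := (congrArg (fun r => tau w1218 * r) (congrArg (fun r => tau w1054 * r) (re2 (m_1176_422 hf) _))).symm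
    _ = (tau w1218 * (tau w6 * (tau w422 * 1))) := (congrArg (fun r => tau w1218 * r) ((re2 (m_1054_1176 hf) _).symm)).symm
    _ = (tau w1218 * (tau w23 * (tau w2329 * (tau w422 * 1)))) := (congrArg (fun r => tau w1218 * r) (re2 (m_23_2329 hf) _)).symm
    _ = (tau w0 * (tau w2329 * (tau w422 * 1))) := ((re2 (m_1218_23 hf) _).symm).symm
    _ = (tau w2329 * (tau w0 * (tau w422 * 1))) := (re22 (k_2329_0 hf) _).symm
    _ = (tau w2329 * (tau w422 * (tau w0 * 1))) := (congrArg (fun r => tau w2329 * r) (re22 (k_422_0 hf) _)).symm

theorem k_87_86 (hf : Faithful) : tau w87 * tau w86 = tau w86 * tau w87 :=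
  tau_comm_conj hf (kbase hf) [0, 1, 0, 2, 0, 2, 0, 2, 0, 1, 0, 2, 0, 1, 0, 1, 0, 1, 0, 2, 0, 1]
    [true, false, true, false, true, true, true, false, true, true, false, true, true, true, false, true, false, true, false, true, false]
    [false, true, true, false, true, false, true, false, true, false, true, false, true, false, true, true, true, false, true, true, false, true, false] (by decide +kernel)

theorem k_87_67 (hf : Faithful) : tau w87 * tau w67 = tau w67 * tau w87 :=
  tau_comm_conj hf (kbase hf) [2]
    []
    [] (by decide +kernel)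

theorem k_86_67 (hf : Faithful) : tau w86 * tau w67 = tau w67 * tau w86 :=
  tau_comm_conj hf (kbase hf) [0, 1, 0, 2, 0, 2, 0, 2, 0, 1, 0, 2, 0, 1, 0, 1, 0, 1, 0, 2, 0]
    [true, false, true, false, true, true, true, false, true, true, false, true, true, true, false, true, false, true, false, true, false]
    [false, true, true, false, true, false, true, false, true, false, true, false, true, false, true, true, true, false, true, true, false, true, false] (by decide +kernel)

theorem sq_line (hf : Faithful) : (tau w87 * (tau w86 * (tau w67 * (tau w87 * (tau w86 * (tau w67 * 1)))))) = 1 :=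
  calc (tau w87 * (tau w86 * (tau w67 * (tau w87 * (tau w86 * (tau w67 * 1))))))
    _ = (tau w86 * (tau w87 * (tau w67 * (tau w87 * (tau w86 * (tau w67 * 1)))))) := re22 (k_87_86 hf) _
    _ = (tau w86 * (tau w67 * (tau w87 * (tau w87 * (tau w86 * (tau w67 * 1)))))) := congrArg (fun r => tau w86 * r) (re22 (k_87_67 hf) _)
    _ = (tau w67 * (tau w86 * (tau w87 * (tau w87 * (tau w86 * (tau w67 * 1)))))) := re22 (k_86_67 hf) _
    _ = (tau w67 * (tau w86 * (tau w86 * (tau w67 * 1)))) := congrArg (fun r => tau w67 * r) (congrArg (fun r => tau w86 * r) ((re2 (tau_mul_self w87) _).trans (one_mul _)))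
    _ = (tau w67 * (tau w67 * 1)) := congrArg (fun r => tau w67 * r) ((re2 (tau_mul_self w86) _).trans (one_mul _))
    _ = 1 := (re2 (tau_mul_self w67) _).trans (one_mul _)

theorem stab_line0 (hf : Faithful) : (tau w87 * (tau w86 * (tau w67 * 1))) = (tau w86 * (tau w67 * (tau w87 * 1))) :=
  calc (tau w87 * (tau w86 * (tau w67 * 1)))
    _ = (tau w86 * (tau w87 * (tau w67 * 1))) := re22 (k_87_86 hf) _
    _ = (tau w86 * (tau w67 * (tau w87 * 1))) := congrArg (fun r => tau w86 * r) (re22 (k_87_67 hf) _)

theorem m_2221_410 (hf : Faithful) : tau w2221 * tau w410 = tau w86 :=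
  line_mul hf [0, 1, 0, 2, 0, 1, 0, 2, 0, 1, 0, 1, 0, 1, 0, 2, 0, 2, 0, 2, 0, 1] 0 1 2
    [true, true, false, true, false, true, true, false, true, false, true, true, false, true, true, true, false, true, true, false, true, false, true, false]
    [false, true, true, false, true, true, true, false, true, true, false, true, true, true, false, true, true, true, false, true, true, false, true, true, true, false]
    [false, true, true, false, true, true, false, true, false, true, false, true, false, true, false, true, true, true, false, true, true, false, true, true, true, false, true] (by decide +kernel)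

theorem m_410_87 (hf : Faithful) : tau w410 * tau w87 = tau w250 :=
  line_mul hf [0, 1, 0, 2, 0, 1, 0, 2, 0, 2, 0, 2, 0, 2, 0, 2, 0, 2, 0, 2, 0, 2, 0, 2, 0] 2 0 1
    [true, false]
    [true, false, true, false, true, true, false, true, true, true, false, true, true, false, true, true, false, true, false, true, true, false]
    [false, true, false, true, true, false, true, true, false, true, true, false, true, false, true, true, false, true, false, true, true, true, false, true, true, false, true, false] (by decide +kernel)

theorem stab_line1 (hf : Faithful) : (tau w87 * (tau w86 * (tau w67 * 1))) = (tau w2221 * (tau w250 * (tau w67 * 1))) :=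
  calc (tau w87 * (tau w86 * (tau w67 * 1)))
    _ = (tau w86 * (tau w87 * (tau w67 * 1))) := re22 (k_87_86 hf) _
    _ = (tau w2221 * (tau w410 * (tau w87 * (tau w67 * 1)))) := (re2 (m_2221_410 hf) _).symm
    _ = (tau w2221 * (tau w250 * (tau w67 * 1))) := congrArg (fun r => tau w2221 * r) (re2 (m_410_87 hf) _)

theorem m_1819_528 (hf : Faithful) : tau w1819 * tau w528 = tau w67 :=
  line_mul hf [0, 1, 0, 2, 0, 1, 0, 2, 0, 1, 0, 1, 0, 1, 0, 2, 0, 2, 0, 2, 0] 0 1 2
    [true, true, false, true, false, true, true, false, true, false, true, true, false, true, true, true, false, true, true, false, true, false, true, false]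
    [false, true, true, false, true, true, true, false, true, true, false, true, true, true, false, true, true, true, false, true, true, false, true, true, true, false]
    [false, true, true, false, true, true, false, true, false, true, false, true, false, true, false, true, true, true, false, true, true, false, true, true, true, false, true] (by decide +kernel)

theorem m_528_87 (hf : Faithful) : tau w528 * tau w87 = tau w3495 :=
  line_mul hf [0, 1, 0, 1, 0, 1, 0, 2, 0, 1, 0, 2, 0, 1, 0, 1, 0, 2, 0, 1, 0, 2, 0, 1, 0, 1, 0, 1, 0, 1, 0, 1] 0 2 1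
    [false, true, true, false, true, false, true, false, true, false, true, false, true, false, true, false, true, true, false, true, false, true, false]
    [true, true, false, true, false, true, false, true, false, true, false, true, true, false, true, true, false, true, false, true, false, true, false, true, false]
    [false, true, true, true, false, true, false, true, false, true, false, true, false, true, false, true, true, false, true, true, true, false, true, true, false, true, true, true] (by decide +kernel)

theorem m_336_2221 (hf : Faithful) : tau w336 * tau w2221 = tau w3495 :=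
  line_mul hf [0, 1, 0, 1, 0, 1, 0, 1, 0, 1, 0, 2, 0, 2, 0, 1, 0, 2, 0, 1, 0] 2 0 1
    [true, false, true, false, true, false, true, false, true, true, true, false, true, true, true, false, true, false, true, true, true, false, true, false, true, false]
    [false, true, false, true, false, true, false, true, false, true, true, false, true, true, true, false, true, false, true, true, false, true, false, true, false, true, false, true, true]
    [true, true, false, true, false, true, true, true, false, true, true, true, false, true, false, true, true, false, true, true, true, false, true] (by decide +kernel)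

theorem m_2221_86 (hf : Faithful) : tau w2221 * tau w86 = tau w410 :=
  line_mul hf [0, 1, 0, 2, 0, 1, 0, 2, 0, 1, 0, 1, 0, 1, 0, 2, 0, 2, 0, 2, 0, 1] 0 2 1
    [true, true, false, true, false, true, true, false, true, false, true, true, false, true, true, true, false, true, true, false, true, false, true, false]
    [false, true, true, false, true, true, false, true, false, true, false, true, false, true, false, true, true, true, false, true, true, false, true, true, true, false, true]
    [false, true, true, false, true, true, true, false, true, true, false, true, true, true, false, true, true, true, false, true, true, false, true, true, true, false] (by decide +kernel)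

theorem stab_line2 (hf : Faithful) : (tau w87 * (tau w86 * (tau w67 * 1))) = (tau w1819 * (tau w336 * (tau w410 * 1))) :=
  calc (tau w87 * (tau w86 * (tau w67 * 1)))
    _ = (tau w87 * (tau w67 * (tau w86 * 1))) := congrArg (fun r => tau w87 * r) (re22 (k_86_67 hf) _)
    _ = (tau w67 * (tau w87 * (tau w86 * 1))) := re22 (k_87_67 hf) _
    _ = (tau w1819 * (tau w528 * (tau w87 * (tau w86 * 1)))) := (re2 (m_1819_528 hf) _).symm
    _ = (tau w1819 * (tau w3495 * (tau w86 * 1))) := congrArg (fun r => tau w1819 * r) (re2 (m_528_87 hf) _)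
    _ = (tau w1819 * (tau w336 * (tau w2221 * (tau w86 * 1)))) := congrArg (fun r => tau w1819 * r) ((re2 (m_336_2221 hf) _).symm)
    _ = (tau w1819 * (tau w336 * (tau w410 * 1))) := congrArg (fun r => tau w1819 * r) (congrArg (fun r => tau w336 * r) (re2 (m_2221_86 hf) _))

theorem stab_line3 (hf : Faithful) : (tau w87 * (tau w86 * (tau w67 * 1))) = (tau w87 * (tau w67 * (tau w86 * 1))) :=
  calc (tau w87 * (tau w86 * (tau w67 * 1)))
    _ = (tau w87 * (tau w67 * (tau w86 * 1))) := congrArg (fun r => tau w87 * r) (re22 (k_86_67 hf) _)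

theorem stab_line4 (hf : Faithful) : (tau w87 * (tau w86 * (tau w67 * 1))) = (tau w67 * (tau w87 * (tau w86 * 1))) :=
  calc (tau w87 * (tau w86 * (tau w67 * 1)))
    _ = (tau w87 * (tau w67 * (tau w86 * 1))) := congrArg (fun r => tau w87 * r) (re22 (k_86_67 hf) _)
    _ = (tau w67 * (tau w87 * (tau w86 * 1))) := re22 (k_87_67 hf) _

theorem m_3275_527 (hf : Faithful) : tau w3275 * tau w527 = tau w86 :=
  line_mul hf [0, 1, 0, 1, 0, 1, 0, 2, 0, 1, 0, 2, 0, 1, 0, 1, 0, 2, 0, 1, 0, 2, 0, 1, 0, 1, 0, 1, 0, 1, 0] 1 0 2
    [false, true, true, true, false, true, false, true, false, true, false, true, false, true, false, true, true, false, true, true, true, false, true, true, false, true, true, true]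
    [false, true, true, false, true, false, true, false, true, false, true, false, true, false, true, false, true, true, false, true, false, true, false]
    [true, true, false, true, false, true, false, true, false, true, false, true, true, false, true, true, false, true, false, true, false, true, false, true, false] (by decide +kernel)

theorem m_527_87 (hf : Faithful) : tau w527 * tau w87 = tau w2222 :=
  line_mul hf [0, 1, 0, 2, 0, 1, 0, 2, 0, 1, 0, 1, 0, 1, 0, 2, 0, 2, 0, 2, 0, 2] 1 2 0
    [false, true, true, false, true, true, true, false, true, true, false, true, true, true, false, true, true, true, false, true, true, false, true, true, true, false]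
    [false, true, true, false, true, true, false, true, false, true, false, true, false, true, false, true, true, true, false, true, true, false, true, true, true, false, true]
    [true, true, false, true, false, true, true, false, true, false, true, true, false, true, true, true, false, true, true, false, true, false, true, false] (by decide +kernel)

theorem m_337_3496 (hf : Faithful) : tau w337 * tau w3496 = tau w2222 :=
  line_mul hf [0, 1, 0, 1, 0, 1, 0, 1, 0, 1, 0, 2, 0, 2, 0, 1, 0, 2, 0, 1, 0, 1] 2 1 0
    [true, false, true, false, true, false, true, false, true, true, true, false, true, true, true, false, true, false, true, true, true, false, true, false, true, false]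
    [true, true, false, true, false, true, true, true, false, true, true, true, false, true, false, true, true, false, true, true, true, false, true]
    [false, true, false, true, false, true, false, true, false, true, true, false, true, true, true, false, true, false, true, true, false, true, false, true, false, true, false, true, true] (by decide +kernel)

theorem m_3496_67 (hf : Faithful) : tau w3496 * tau w67 = tau w410 :=
  line_mul hf [0, 1, 0, 2, 0, 1, 0, 2, 0, 1, 0, 2, 0, 1, 0, 1, 0, 2, 0, 2, 0, 2, 0, 1, 0, 2, 0, 2, 0, 2, 0] 0 2 1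
    [false, true, true, false, true, true, true, false, true, true, false, true, true, false, true, false, true, false, true, true, false, true, false]
    [false, true, true, true, false, true, false, true, false, true, false, true, false, true, false, true, true, true, false, true, false, true, true, false, true, true, true, false]
    [true, false, true, true, true, false, true, false, true, true, false, true, true, true, false, true, true, false, true, true, false, true, false] (by decide +kernel)

theorem stab_line5 (hf : Faithful) : (tau w87 * (tau w86 * (tau w67 * 1))) = (tau w3275 * (tau w337 * (tau w410 * 1))) :=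
  calc (tau w87 * (tau w86 * (tau w67 * 1)))
    _ = (tau w86 * (tau w87 * (tau w67 * 1))) := re22 (k_87_86 hf) _
    _ = (tau w3275 * (tau w527 * (tau w87 * (tau w67 * 1)))) := (re2 (m_3275_527 hf) _).symm
    _ = (tau w3275 * (tau w2222 * (tau w67 * 1))) := congrArg (fun r => tau w3275 * r) (re2 (m_527_87 hf) _)
    _ = (tau w3275 * (tau w337 * (tau w3496 * (tau w67 * 1)))) := congrArg (fun r => tau w3275 * r) ((re2 (m_337_3496 hf) _).symm)
    _ = (tau w3275 * (tau w337 * (tau w410 * 1))) := congrArg (fun r => tau w3275 * r) (congrArg (fun r => tau w337 * r) (re2 (m_3496_67 hf) _))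

end CfsgLib.JankoFour.HBound
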